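import Cfsg.Agent.Omega.OM.NJQ.Main

/-!
# THEOREM NJQ for `S ∈ Syl₂(G)` (bb OMEGA #20560 (C), (D))

* `Hyp.norm_jj` : `N_G(J(O₂(P))) ≤ N_G(V_P)`;
* `Hyp.eq_of_cent` : `J(O₂(P))` centralises `V^g` ⟹ `V^g = V`.
-/

set_option autoImplicit false

namespace Cfsg.Agent.Omega.OM.NJQ

open Subgroup Cfsg Cfsg.Agent.ZN.ChoiceBase Cfsg.Agent.ZN.ChoiceSit
open Cfsg.Agent.ZN (jj zj bau zc zl o2)
open Cfsg.Agent.Omega.SQ1.FFOne (syl_inf)

universe u

variable {G : Type u} [Group G] [Finite G]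

theorem syl_of_le (S : Sylow 2 G) {H : Subgroup G} (h : (S : Subgroup G) ≤ H) : Syl (S : Subgroup G) H := by
  have : Fact (Nat.Prime 2) := ⟨Nat.prime_two⟩
  refine ⟨h, S.isPGroup', fun R _ hR hSR => ?_⟩
  exact S.3 hR hSR

namespace Hyp

variable {S : Sylow 2 G} {P A : Subgroup G} {u : G}

theorem P_le (_h : Hyp (S : Subgroup G) P A u) : P ≤ normalizer (jj (o2 P) : Set G) :=
  (MinSimple.VModule.le_normalizer_o2 P).trans (normalizer_le_jj (o2 P))

theorem zl_eq (h : Hyp (S : Subgroup G) P A u) :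
    zl (S : Subgroup G) (normalizer (jj (o2 P) : Set G)) = zl (S : Subgroup G) P :=
  le_antisymm (h.zl_le (syl_of_le S (h.par.le.trans h.P_le)) h.P_le le_rfl) (zl_mono h.P_le)

/-- **`N_G(J(O₂(P))) ≤ N_G(V_P)`** -/
theorem norm_jj (h : Hyp (S : Subgroup G) P A u) :
    normalizer (jj (o2 P) : Set G) ≤ normalizer (zl (S : Subgroup G) P : Set G) := by
  have h1 := MinSimple.VModule.le_normalizer_zl (S : Subgroup G) (normalizer (jj (o2 P) : Set G))
  rwa [h.zl_eq] at h1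

theorem cj_AA (h : Hyp (S : Subgroup G) P A u) {E : Subgroup G} (hE : E ∈ AA (o2 P)) {x : G}
    (hx : cj x E ≤ o2 P) : cj x E ∈ AA (o2 P) :=
  h.AA_of (isElementaryAbelian_cj x hE.1) (by rw [card_cj, h.card_Q hE]) hx

theorem mem_norm_jj (h : Hyp (S : Subgroup G) P A u) {x : G} (hx : cj x (jj (o2 P)) ≤ o2 P) :
    x ∈ normalizer (jj (o2 P) : Set G) := by
  apply mem_normalizer_of_cj_le
  have e : cj x (jj (o2 P)) = ⨆ E : AA (o2 P), cj x (E : Subgroup G) := by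
    rw [jj_eq, sSup_eq_iSup']
    exact Subgroup.map_iSup _ _
  rw [e]
  exact iSup_le fun E => le_jj (h.cj_AA E.2 ((cj_mono x (le_jj E.2)).trans hx))

/-- a 2-subgroup centralising `V` is conjugate in `C(V)` into `Q` -/
theorem exists_cent (h : Hyp (S : Subgroup G) P A u) {B : Subgroup G} (hB : IsPGroup 2 B)
    (hBV : B ≤ centralizer (zl (S : Subgroup G) P : Set G)) :
    ∃ c ∈ centralizer (zl (S : Subgroup G) P : Set G), cj c B ≤ o2 P := by
  have h1 : Syl (S : Subgroup G) (normalizer (zl (S : Subgroup G) P : Set G)) :=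
    syl_of_le S (h.par.le.trans (MinSimple.VModule.le_normalizer_zl _ P))
  have h2 := syl_inf h1 (N := centralizer (zl (S : Subgroup G) P : Set G)) (centralizer_le_normalizer _) (by
    intro g hg n hn
    refine mem_centralizer_iff.2 fun v hv => ?_
    have h3 : g⁻¹ * v * g ∈ zl (S : Subgroup G) P := by
      have := (mem_normalizer_iff.1 (inv_mem hg) v).1 hv
      rwa [inv_inv] at this
    have h4 := mem_centralizer_iff.1 hn _ h3
    calc v * (g * n * g⁻¹) = g * ((g⁻¹ * v * g) * n) * g⁻¹ := by group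
      _ = g * (n * (g⁻¹ * v * g)) * g⁻¹ := by rw [h4]
      _ = g * n * g⁻¹ * v := by group)
  rw [h.cS] at h2
  obtain ⟨R, hR, hBR⟩ := exists_syl hB hBV
  obtain ⟨c, hc, e⟩ := syl_conj hR h2
  exact ⟨c, hc, (cj_mono c hBR).trans e.le⟩

/-- **`J(O₂(P))` centralises `V^g` ⟹ `V^g = V`.** -/
theorem eq_of_cent (h : Hyp (S : Subgroup G) P A u) {g : G}
    (hc : jj (o2 P) ≤ centralizer (cj g (zl (S : Subgroup G) P) : Set G)) :
    cj g (zl (S : Subgroup G) P) = zl (S : Subgroup G) P := by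
  have hJ2 : IsPGroup 2 (jj (o2 P)) := (h.two.to_le h.QS).to_le (jj_le _)
  have h1 : cj g⁻¹ (jj (o2 P)) ≤ centralizer (zl (S : Subgroup G) P : Set G) := by
    have h2 := cj_mono g⁻¹ hc
    rwa [cj_centralizer, cj_inv_cj] at h2
  obtain ⟨c, hcV, hcQ⟩ := h.exists_cent (isPGroup_cj g⁻¹ hJ2) h1
  rw [cj_cj] at hcQ
  have h2 := cj_eq_of_mem_normalizer (h.norm_jj (h.mem_norm_jj hcQ))
  have h3 : cj c⁻¹ (zl (S : Subgroup G) P) = zl (S : Subgroup G) P :=
    cj_eq_of_mem_normalizer (centralizer_le_normalizer _ (inv_mem hcV))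
  have h4 : cj g⁻¹ (zl (S : Subgroup G) P) = zl (S : Subgroup G) P := by
    have h5 := congrArg (cj c⁻¹) h2
    rwa [cj_cj, inv_mul_cancel_left, h3] at h5
  have h5 := congrArg (cj g) h4
  rw [cj_cj_inv] at h5
  exact h5.symm

end Hyp

end Cfsg.Agent.Omega.OM.NJQ
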