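import Mathlib

/-!
# LEMMA T (bb OMEGA #20560 (c1), (c2)): every transvection of a group generated by transvections

`M` is a vector space over `F₂`, `K` a group acting on `M`, `T ⊆ K` a set of transvections of `M`, `D = ⟨T⟩`,
`T` invariant under `D`.  Assume `O₂(D) = 1` in the following sense: if `D` normalises the subgroup `W` and
`x ∈ D` is trivial on `W` and on `M / W` then `x` is trivial on `M`.
Then every element of `D` which acts as a transvection acts as an element of `T`.
-/

set_option autoImplicit false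

namespace Cfsg.Agent.Omega.OM.NJQ

variable {M K : Type*} [AddCommGroup M] [Module (ZMod 2) M] [Group K] [DistribMulAction K M]

/-- `k` acts as the transvection `x ↦ x + g(x) c`. -/
def IsTv (k : K) (g : M →ₗ[ZMod 2] ZMod 2) (c : M) : Prop := ∀ x, k • x = x + g x • c

theorem z2 (a : ZMod 2) : a = 0 ∨ a = 1 := by
  revert a; decide

omit [Group K] [DistribMulAction K M] in
theorem self_add (x : M) : x + x = 0 := by
  have h : (2 : ZMod 2) • x = 0 := by
    have : (2 : ZMod 2) = 0 := by decide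
    rw [this, zero_smul]
  rwa [two_smul] at h

/-- `g(c) = 0` for a transvection with `c ≠ 0`. -/
theorem IsTv.gc {k : K} {g : M →ₗ[ZMod 2] ZMod 2} {c : M} (h : IsTv k g c) (hc : c ≠ 0) : g c = 0 := by
  rcases z2 (g c) with h1 | h1
  · exact h1
  · exfalso
    have h2 := h c
    rw [h1, one_smul, self_add] at h2
    exact hc ((smul_eq_zero_iff_eq k).1 h2)

theorem IsTv.smul_smul {k : K} {g : M →ₗ[ZMod 2] ZMod 2} {c : M} (h : IsTv k g c) (hc : g c = 0) (x : M) :
    k • k • x = x := by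
  rw [h (k • x), h x, map_add, map_smul, hc, smul_zero, add_zero, add_assoc, self_add, add_zero]

theorem IsTv.inv {k : K} {g : M →ₗ[ZMod 2] ZMod 2} {c : M} (h : IsTv k g c) (hc : g c = 0) : IsTv k⁻¹ g c := by
  intro x
  rw [← h x, inv_smul_eq_iff, h.smul_smul hc]

/-- `s t s⁻¹` for `s = 1 + f v`, `t = 1 + g c`, `f(v) = 0`. -/
theorem IsTv.conj {s t : K} {f g : M →ₗ[ZMod 2] ZMod 2} {v c : M} (hs : IsTv s f v) (hv : f v = 0)
    (ht : IsTv t g c) : IsTv (s * t * s⁻¹) (g + g v • f) (c + f c • v) := by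
  intro x
  rw [mul_smul, mul_smul, hs.inv hv x, ht, hs]
  simp only [map_add, map_smul, LinearMap.add_apply, LinearMap.smul_apply, hv, smul_eq_mul, mul_zero, add_zero]
  generalize f x = a
  generalize g x = b
  generalize g v = d
  generalize f c = e
  match_scalars <;> revert a b d e <;> decide

/-- **LEMMA T.** -/
theorem lemT {T : Set K} {D : Subgroup K} (hgen : D ≤ Subgroup.closure T)
    (hTD : T ⊆ D) (hconj : ∀ t ∈ T, ∀ d ∈ D, d * t * d⁻¹ ∈ T)
    (htv : ∀ t ∈ T, ∃ (g : M →ₗ[ZMod 2] ZMod 2) (c : M), c ≠ 0 ∧ IsTv t g c)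
    (hO : ∀ W : AddSubgroup M, (∀ d ∈ D, ∀ w ∈ W, d • w ∈ W) → ∀ x ∈ D, (∀ w ∈ W, x • w = w) →
      (∀ m, x • m - m ∈ W) → ∀ m : M, x • m = m)
    {s : K} (hs : s ∈ D) {f : M →ₗ[ZMod 2] ZMod 2} {v : M} (hf : f ≠ 0) (hv : v ≠ 0) (hsv : IsTv s f v) :
    ∃ t ∈ T, IsTv t f v := by
  classical
  have hfv : f v = 0 := hsv.gc hv
  let CCp : M → Prop := fun c => c ≠ 0 ∧ ∃ t ∈ T, ∃ g : M →ₗ[ZMod 2] ZMod 2, IsTv t g c ∧ g v = 1
  let Psi : (M →ₗ[ZMod 2] ZMod 2) → Prop := fun g => g v = 0 ∧ (∃ d ∈ D, IsTv d g v) ∧ ∀ c, CCp c → g c = 0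
  have claim : ∀ h : M →ₗ[ZMod 2] ZMod 2, Psi h → ∀ t ∈ T, ∀ (g : M →ₗ[ZMod 2] ZMod 2) (c : M), c ≠ 0 →
      IsTv t g c → h c = 1 → Psi g := by
    intro h hP t ht g c hc htg hhc
    have hgc : g c = 0 := htg.gc hc
    have hgv : g v = 0 := by
      rcases z2 (g v) with h1 | h1
      · exact h1
      · have h2 := hP.2.2 c ⟨hc, t, ht, g, htg, h1⟩
        rw [hhc] at h2
        exact absurd h2 one_ne_zero
    obtain ⟨d, hd, hdv⟩ := hP.2.1
    have h1 : IsTv (d * t * d⁻¹) g (c + v) := by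
      have h2 := hdv.conj hP.1 htg
      rwa [hgv, zero_smul, add_zero, hhc, one_smul] at h2
    refine ⟨hgv, ⟨t * (d * t * d⁻¹), mul_mem (hTD ht) (hTD (hconj t ht d hd)), ?_⟩, ?_⟩
    · intro x
      rw [mul_smul, h1, htg]
      simp only [map_add, map_smul, hgc, hgv, smul_eq_mul, mul_zero, add_zero]
      generalize g x = b
      match_scalars <;> revert b <;> decide
    · intro c' hc'
      rcases z2 (g c') with h2 | h2
      · exact h2
      exfalso
      obtain ⟨hc0, t', ht', g', htg', hgv'⟩ := id hc'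
      obtain ⟨t'', ht'', c'', hc'', hg''⟩ : ∃ t'' ∈ T, ∃ c'', IsTv t'' g c'' ∧ h c'' = 1 ∧ g' c'' = 1 := by
        rcases z2 (g' c) with h3 | h3
        · refine ⟨_, hconj t ht d hd, c + v, h1, ?_, ?_⟩
          · rw [map_add, hhc, hP.1, add_zero]
          · rw [map_add, h3, hgv', zero_add]
        · exact ⟨t, ht, c, htg, hhc, h3⟩
      have h3 := htg'.conj (htg'.gc hc0) hc''
      rw [h2, one_smul, hg''.2, one_smul] at h3
      have h4 : h (c'' + c') = 1 := by rw [map_add, hg''.1, hP.2.2 c' hc', add_zero]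
      have h5 : CCp (c'' + c') := by
        refine ⟨?_, _, hconj t'' ht'' t' (hTD ht'), _, h3, ?_⟩
        · intro h6
          rw [h6, map_zero] at h4
          exact zero_ne_one h4
        · rw [LinearMap.add_apply, hgv, hgv', zero_add]
      have h6 := hP.2.2 _ h5
      rw [h4] at h6
      exact one_ne_zero h6
  by_cases hP : ∀ c, CCp c → f c = 0
  · exfalso
    have hPf : Psi f := ⟨hfv, ⟨s, hs, hsv⟩, hP⟩
    let W : AddSubgroup M :=
      { carrier := {x | ∀ g : M →ₗ[ZMod 2] ZMod 2, Psi g → g x = 0}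
        zero_mem' := fun g _ => map_zero g
        add_mem' := fun {a b} ha hb g hg => by rw [map_add, ha g hg, hb g hg, add_zero]
        neg_mem' := fun {a} ha g hg => by rw [map_neg, ha g hg, neg_zero] }
    have hW : ∀ x, x ∈ W ↔ ∀ g : M →ₗ[ZMod 2] ZMod 2, Psi g → g x = 0 := fun x => Iff.rfl
    have hvW : v ∈ W := fun g hg => hg.1
    have hTW : ∀ t ∈ T, ∀ w ∈ W, t • w ∈ W := by
      intro t ht w hw
      obtain ⟨g, c, hc, htg⟩ := htv t ht
      rw [htg w]
      intro h hh
      rw [map_add, map_smul, hw h hh, zero_add, smul_eq_mul]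
      rcases z2 (h c) with h1 | h1
      · rw [h1, mul_zero]
      · rw [hw g (claim h hh t ht g c hc htg h1), zero_mul]
    have hDW : ∀ d ∈ D, ∀ w, d • w ∈ W ↔ w ∈ W := by
      intro d hd
      refine Subgroup.closure_induction (p := fun d _ => ∀ w, d • w ∈ W ↔ w ∈ W) ?_ ?_ ?_ ?_ (hgen hd)
      · intro t ht w
        refine ⟨fun h1 => ?_, hTW t ht w⟩
        obtain ⟨g, c, hc, htg⟩ := htv t ht
        have h2 := hTW t ht _ h1
        rwa [htg.smul_smul (htg.gc hc)] at h2
      · intro w; rw [one_smul]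
      · intro x y _ _ hx hy w
        rw [mul_smul, hx, hy]
      · intro x _ hx w
        rw [← hx, smul_inv_smul]
    have h1 := hO W (fun d hd w hw => (hDW d hd w).2 hw) s hs (fun w hw => by
      rw [hsv w, hw f hPf, zero_smul, add_zero]) (fun m => by
      rw [hsv m, add_sub_cancel_left]
      rcases z2 (f m) with h2 | h2
      · rw [h2, zero_smul]; exact W.zero_mem
      · rw [h2, one_smul]; exact hvW)
    apply hf
    ext m
    have h2 := h1 m
    rw [hsv m, add_eq_left] at h2
    rcases z2 (f m) with h3 | h3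
    · rw [h3, LinearMap.zero_apply]
    · rw [h3, one_smul] at h2
      exact absurd h2 hv
  · push Not at hP
    obtain ⟨c, ⟨hc, t, ht, g, htg, hgv⟩, hfc⟩ := hP
    have hfc1 : f c = 1 := (z2 (f c)).resolve_left hfc
    have hgc : g c = 0 := htg.gc hc
    have h1 := hsv.conj hfv htg
    rw [hgv, one_smul, hfc1, one_smul] at h1
    have h2 := htg.conj hgc h1
    refine ⟨_, hconj _ (hconj t ht s hs) t (hTD ht), ?_⟩
    have e1 : (g + f) c = 1 := by rw [LinearMap.add_apply, hgc, hfc1, zero_add]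
    have e2 : g (c + v) = 1 := by rw [map_add, hgc, hgv, zero_add]
    rw [e1, one_smul, e2, one_smul] at h2
    have e3 : g + f + g = f := by
      ext x
      simp only [LinearMap.add_apply]
      generalize g x = a
      generalize f x = b
      revert a b; decide
    have e4 : c + v + c = v := by
      rw [add_comm c v, add_assoc, self_add, add_zero]
    rwa [e3, e4] at h2

end Cfsg.Agent.Omega.OM.NJQ
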