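import Cfsg.Agent.Omega.OM.NJQ.Plug

/-!
# LEMMA Y (bb OMEGA #20560 (A)), all `q`

The frame `Uni.Fr` over `B = bau S`, `V = zl S P`, `Q = O₂(P)`, `Y = Ω₁Z(J(Q)) = zj (o2 P)`.

* `mem_V_of` : `y ∈ Y`, `[y, Q ∩ J(S)] = 1` ⟹ `y ∈ V`;
* `comm_V` : `[Y, E_P] ≤ V`, `E_P = ⟨J(S)^P⟩`;
* `lemY` : `y ∈ Y \ V` ⟹ `{[y, r] : r ∈ Q ∩ E_P}` is a subgroup of `V`, invariant under `E_P Q`, and contains some
  `W i`.
-/

set_option autoImplicit false

namespace Cfsg.Agent.Omega.OM.NJQ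

open Subgroup Cfsg Cfsg.Agent.ZN.ChoiceBase Cfsg.Agent.ZN.ChoiceSit
open Cfsg.Agent.ZN (jj zj bau zc zl o2)
open Cfsg.Agent.PLocal.ElemAbSup Cfsg.Agent.PLocal.ThompsonJ
open Cfsg.Agent.Omega.SQ1.Bau (elem_comm elem_sq mem_sup_comm card_sup_comm zj_le_AA)
open Cfsg.Agent.Omega.OM.BlockUniq (elem_le_centralizer Mx)
open Cfsg.Agent.Omega.OM.Uni (Md FB Fr)

universe u

variable {G : Type u} [Group G] [Finite G]

section

variable {ι : Type*} [Finite ι] {S : Sylow 2 G} {P : Subgroup G} {L W Z C A : ι → Subgroup G} {q : ℕ}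

/-- `(E ∩ C(V)) V ∈ A(Q)` for `E ∈ A(S)`. -/
theorem rep_Q (hF : Fr (bau (S : Subgroup G)) (o2 P) (zl (S : Subgroup G) P) (zj (S : Subgroup G)) L W Z C A q
      (mm (S : Subgroup G))) {E : Subgroup G} (hE : E ∈ AA (S : Subgroup G)) :
    (E ⊓ centralizer (zl (S : Subgroup G) P : Set G)) ⊔ zl (S : Subgroup G) P ∈ AA (o2 P) := by
  have hEB : E ≤ bau (S : Subgroup G) := (le_jj hE).trans (jj_le_bau _)
  obtain ⟨h1, h2⟩ := fr_rep hF hEB hE.1 (mm_eq hE).symm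
  refine ⟨h1, sup_le (fun x hx => (hF.mem_Q x (hEB hx.1)).2 fun v hv =>
    (mem_centralizer_iff.1 hx.2 v hv).symm) hF.VQ, fun B hB _ => ?_⟩
  rw [h2]
  exact hF.max B hB

/-- `[Y, E] ≤ V` for `E ∈ A(S)`; more precisely `Y ≤ (E ∩ C(V)) V`. -/
theorem split_Y (hF : Fr (bau (S : Subgroup G)) (o2 P) (zl (S : Subgroup G) P) (zj (S : Subgroup G)) L W Z C A q
      (mm (S : Subgroup G))) {E : Subgroup G} (hE : E ∈ AA (S : Subgroup G)) {y : G} (hy : y ∈ zj (o2 P)) :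
    ∃ b ∈ E ⊓ centralizer (zl (S : Subgroup G) P : Set G), ∃ v ∈ zl (S : Subgroup G) P, y = b * v := by
  obtain ⟨b, hb, v, hv, e⟩ := mem_sup_comm (A := E ⊓ centralizer (zl (S : Subgroup G) P : Set G))
    (B := zl (S : Subgroup G) P)
    (fun x hx w hw => (mem_centralizer_iff.1 (mem_inf.1 hx).2 w hw).symm) (zj_le_AA (rep_Q hF hE) hy)
  exact ⟨b, hb, v, hv, e⟩

/-- an element of `B` acts on `V` as an element of `J(S)`, more precisely of `⟨A i⟩` -/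
theorem exists_act (hF : Fr (bau (S : Subgroup G)) (o2 P) (zl (S : Subgroup G) P) (zj (S : Subgroup G)) L W Z C A q
      (mm (S : Subgroup G))) {b : G} (hb : b ∈ bau (S : Subgroup G)) :
    ∃ t ∈ ⨆ i, A i, b * t⁻¹ ∈ o2 P := by
  classical
  have := Fintype.ofFinite ι
  have hAB : (⨆ i, A i) ≤ bau (S : Subgroup G) := iSup_le hF.AB
  have key : ∀ s : Finset ι, ∃ t ∈ ⨆ i, A i, (∀ i ∈ s, ∀ w ∈ W i, (b * t⁻¹) * w = w * (b * t⁻¹)) := by
    intro s
    induction s using Finset.induction_on with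
    | empty => exact ⟨1, one_mem _, by simp⟩
    | insert i s hi ih =>
      obtain ⟨t, ht, h1⟩ := ih
      set c := b * t⁻¹ with hc
      have hcB : c ∈ bau (S : Subgroup G) := mul_mem hb (inv_mem (hAB ht))
      -- `c` acts on `W i` as an element of `A i`
      obtain ⟨v, hv, hvZ⟩ : ∃ v ∈ W i, v ∉ Z i := by
        by_contra hcon
        push Not at hcon
        exact hF.Ane i fun a ha v hv => (hF.blk i).cZ a (hF.AB i ha) v (hcon v hv)
      obtain ⟨R, hR1, hR2, hR3, hR4⟩ := (hF.blk i).toMd.relIndex_comm (hF.AB i) hv hvZ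
      have hR : R = Z i := by
        refine Subgroup.eq_of_le_of_card_ge hR1 ?_
        have h2 := (hF.A_full i).2.2
        rw [← hR4] at h2
        have h3 := Nat.eq_of_mul_eq_mul_right Nat.card_pos h2
        rw [← h3, hF.cardZ i]
      have h2 := (hF.blk i).com c hcB v hv
      rw [← hR] at h2
      obtain ⟨a, ha, e⟩ := hR2 _ h2
      have haB := hF.AB i ha
      have h3 : (c * a⁻¹) * v = v * (c * a⁻¹) := by
        have h4 : c * v * c⁻¹ = a * v * a⁻¹ := mul_right_cancel e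
        have h5 : a⁻¹ * c * v = v * (a⁻¹ * c) := by
          calc a⁻¹ * c * v = a⁻¹ * (c * v * c⁻¹) * c := by group
            _ = a⁻¹ * (a * v * a⁻¹) * c := by rw [h4]
            _ = v * (a⁻¹ * c) := by group
        -- `a⁻¹ c` centralises `W i`, so its conjugate `c a⁻¹` does
        have h6 := (hF.blk i).free (a⁻¹ * c) (mul_mem (inv_mem haB) hcB) v hv hvZ h5
        have h7 : a⁻¹ * v * a ∈ W i := by
          have := (hF.blk i).toMd.BV (inv_mem haB) hv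
          rwa [inv_inv] at this
        have h8 := h6 _ h7
        calc c * a⁻¹ * v = a * (a⁻¹ * c * (a⁻¹ * v * a)) * a⁻¹ := by group
          _ = a * (a⁻¹ * v * a * (a⁻¹ * c)) * a⁻¹ := by rw [h8]
          _ = v * (c * a⁻¹) := by group
      have h4 := (hF.blk i).free (c * a⁻¹) (mul_mem hcB (inv_mem haB)) v hv hvZ h3
      refine ⟨a * t, mul_mem (mem_iSup_of_mem i ha) ht, fun j hj w hw => ?_⟩
      have e1 : b * (a * t)⁻¹ = c * a⁻¹ := by rw [hc]; group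
      rw [e1]
      rcases Finset.mem_insert.1 hj with rfl | hj
      · exact h4 w hw
      · have hji : j ≠ i := fun e => hi (e ▸ hj)
        have h5 : Commute c w := h1 j hj w hw
        have h6 : Commute a w := hF.AC i a ha w (hF.WjC i j (Ne.symm hji) hw)
        exact (h5.mul_left h6.inv_left).eq
  obtain ⟨t, ht, h1⟩ := key Finset.univ
  refine ⟨t, ht, (hF.mem_Q _ (mul_mem hb (inv_mem (hAB ht)))).2 fun v hv => ?_⟩
  have h2 : zl (S : Subgroup G) P ≤ centralizer ({b * t⁻¹} : Set G) := by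
    conv_lhs => rw [hF.V_eq]
    refine iSup_le fun i w hw => mem_centralizer_iff.2 fun y hy => ?_
    rw [Set.mem_singleton_iff.1 hy]
    exact h1 i (Finset.mem_univ i) w hw
  exact mem_centralizer_iff.1 (h2 hv) _ rfl

omit [Finite ι] in
theorem A_jj (hF : Fr (bau (S : Subgroup G)) (o2 P) (zl (S : Subgroup G) P) (zj (S : Subgroup G)) L W Z C A q
      (mm (S : Subgroup G))) (i : ι) : A i ≤ jj (S : Subgroup G) := le_jj (fr_AA hF i)

/-- **LEMMA Y, first half**: `C_Y(Q ∩ J(S)) = V`. -/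
theorem mem_V_of (hF : Fr (bau (S : Subgroup G)) (o2 P) (zl (S : Subgroup G) P) (zj (S : Subgroup G)) L W Z C A q
      (mm (S : Subgroup G))) {y : G} (hy : y ∈ zj (o2 P))
    (hc : ∀ r ∈ o2 P ⊓ jj (S : Subgroup G), r * y = y * r) : y ∈ zl (S : Subgroup G) P := by
  classical
  have := Fintype.ofFinite ι
  have hVj : zl (S : Subgroup G) P ≤ zj (o2 P) := by
    obtain ⟨E, hE⟩ := AA_nonempty (S : Subgroup G)
    intro v hv
    exact mem_zj.2 ⟨le_jj (rep_Q hF hE) (mem_sup_right hv), elem_sq hF.el v hv, fun x hx =>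
      hF.cQ (jj_le _ hx) hv⟩
  have key : ∀ s : Finset ι, ∃ v ∈ zl (S : Subgroup G) P, (∀ i ∈ s, ∀ a ∈ A i, a * (y * v) = y * v * a) ∧
      ∀ j, j ∉ s → ∀ a ∈ A j, a * v = v * a := by
    intro s
    induction s using Finset.induction_on with
    | empty => exact ⟨1, one_mem _, by simp, by simp⟩
    | insert i s hi ih =>
      obtain ⟨v, hv, h1, h2⟩ := ih
      obtain ⟨b, hb, v', hv', e⟩ := split_Y hF (fr_AA hF i) hy
      obtain ⟨w, hw, c, hc', e'⟩ := hF.WC i v' hv'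
      refine ⟨v * w⁻¹, mul_mem hv (inv_mem (hF.WV i hw)), fun j hj a ha => ?_, fun j hj a ha => ?_⟩
      · rcases Finset.mem_insert.1 hj with rfl | hj
        · have c1 : Commute a b := elem_comm (hF.Ael j) a ha b hb.1
          have c2 : Commute a c := hF.AC j a ha c hc'
          have c3 : Commute a v := h2 j hi a ha
          have c4 : w * c = c * w := hF.Vc (hF.WV j hw) (hF.CV j hc')
          have c5 : w * v = v * w := hF.Vc (hF.WV j hw) hv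
          have e1 : y * (v * w⁻¹) = b * (c * v) := by
            calc y * (v * w⁻¹) = b * (w * c) * (v * w⁻¹) := by rw [e, e']
              _ = b * (c * w) * (v * w⁻¹) := by rw [c4]
              _ = b * c * (w * v) * w⁻¹ := by group
              _ = b * c * (v * w) * w⁻¹ := by rw [c5]
              _ = b * (c * v) := by group
          rw [e1]
          exact (c1.mul_right (c2.mul_right c3)).eq
        · have hji : j ≠ i := fun e => hi (e ▸ hj)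
          have c1 : Commute a (y * v) := h1 j hj a ha
          have c2 : Commute a w := hF.AC j a ha w (hF.WjC j i hji hw)
          have e1 : y * (v * w⁻¹) = y * v * w⁻¹ := by group
          rw [e1]
          exact (c1.mul_right c2.inv_right).eq
      · rw [Finset.mem_insert, not_or] at hj
        have c1 : Commute a v := h2 j hj.2 a ha
        have c2 : Commute a w := hF.AC j a ha w (hF.WjC j i hj.1 hw)
        exact (c1.mul_right c2.inv_right).eq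
  obtain ⟨v, hv, h1, -⟩ := key Finset.univ
  have hyv : y * v ∈ zj (o2 P) := mul_mem hy (hVj hv)
  have hA : ∀ t ∈ ⨆ i, A i, t * (y * v) = y * v * t := by
    intro t ht
    have h2 : (⨆ i, A i) ≤ centralizer ({y * v} : Set G) := by
      refine iSup_le fun i a ha => mem_centralizer_iff.2 fun x hx => ?_
      rw [Set.mem_singleton_iff.1 hx]
      exact (h1 i (Finset.mem_univ i) a ha).symm
    exact (mem_centralizer_iff.1 (h2 ht) _ rfl).symm
  have hjQ : jj (o2 P) ≤ jj (S : Subgroup G) := by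
    obtain ⟨E, hE⟩ := AA_nonempty (S : Subgroup G)
    have h3 := rep_Q hF hE
    have h4 : Nat.card ↥((E ⊓ centralizer (zl (S : Subgroup G) P : Set G)) ⊔ zl (S : Subgroup G) P) =
        mm (S : Subgroup G) := (fr_rep hF ((le_jj hE).trans (jj_le_bau _)) hE.1 (mm_eq hE).symm).2
    rw [jj_eq]
    refine sSup_le fun E' hE' => le_jj ⟨hE'.1, hE'.2.1.trans (hF.QB.trans (bau_le _)), fun B hB hBS => ?_⟩
    exact (card_le_mm hB hBS).trans (h4.ge.trans (hE'.2.2 _ h3.1 h3.2.1))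
  have h2 : y * v ∈ zj (S : Subgroup G) := by
    refine mem_zj.2 ⟨hjQ (mem_zj.1 hyv).1, (mem_zj.1 hyv).2.1, fun b hb => ?_⟩
    obtain ⟨t, ht, hbt⟩ := exists_act hF (jj_le_bau _ hb)
    have htJ : t ∈ jj (S : Subgroup G) := (iSup_le (A_jj hF) : (⨆ i, A i) ≤ _) ht
    have c1 : Commute (b * t⁻¹) y := hc _ ⟨hbt, (jj (S : Subgroup G)).mul_mem hb ((jj (S : Subgroup G)).inv_mem htJ)⟩
    have c2 : Commute (b * t⁻¹) v := hF.cQ hbt hv
    have c3 : Commute t (y * v) := hA t ht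
    have e : b = b * t⁻¹ * t := by group
    rw [e]
    exact ((c1.mul_right c2).mul_left c3).eq
  have h3 := mul_mem (hF.ZJV h2) (inv_mem hv)
  rwa [mul_inv_cancel_right] at h3

/-! ### The submodule `[y, Q ∩ E_P]` -/

/-- `E_P = ⟨J(S)^P⟩` -/
abbrev EP (S P : Subgroup G) : Subgroup G := ⨆ g : P, cj (g : G) (jj S)

omit [Finite ι] [Finite G] in
theorem cj_EP (S : Subgroup G) {P : Subgroup G} {p : G} (hp : p ∈ P) {x : G} (hx : x ∈ EP S P) :
    p * x * p⁻¹ ∈ EP S P :=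
  (mem_normalizer_iff.1 (le_normalizer_iSup_cj P (jj S) hp) x).1 hx

theorem zjP {p y : G} (hp : p ∈ P) (hy : y ∈ zj (o2 P)) : p * y * p⁻¹ ∈ zj (o2 P) :=
  Hyp.zjH (P := P) (H := P) ((MinSimple.VModule.le_normalizer_o2 P).trans (normalizer_le_jj (o2 P))) hp hy

/-- `[Y, E_P] ≤ V` -/
theorem comm_V (hSP : (S : Subgroup G) ≤ P)
    (hF : Fr (bau (S : Subgroup G)) (o2 P) (zl (S : Subgroup G) P) (zj (S : Subgroup G)) L W Z C A q
      (mm (S : Subgroup G))) {x : G} (hx : x ∈ EP (S : Subgroup G) P) {y : G} (hy : y ∈ zj (o2 P)) :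
    x * y * x⁻¹ * y⁻¹ ∈ zl (S : Subgroup G) P := by
  have hPV : P ≤ normalizer (zl (S : Subgroup G) P : Set G) := MinSimple.VModule.le_normalizer_zl _ P
  have hV : ∀ p ∈ P, ∀ v ∈ zl (S : Subgroup G) P, p * v * p⁻¹ ∈ zl (S : Subgroup G) P := fun p hp v hv =>
    (mem_normalizer_iff.1 (hPV hp) v).1 hv
  let K : Subgroup G :=
    { carrier := {x | x ∈ P ∧ ∀ y ∈ zj (o2 P), x * y * x⁻¹ * y⁻¹ ∈ zl (S : Subgroup G) P}
      mul_mem' := by
        rintro x z ⟨hx, h1⟩ ⟨hz, h2⟩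
        refine ⟨P.mul_mem hx hz, fun y hy => ?_⟩
        have h3 := mul_mem (hV x hx _ (h2 y hy)) (h1 y hy)
        have e : x * (z * y * z⁻¹ * y⁻¹) * x⁻¹ * (x * y * x⁻¹ * y⁻¹) = x * z * y * (x * z)⁻¹ * y⁻¹ := by group
        rwa [e] at h3
      one_mem' := ⟨P.one_mem, fun y _ => by simp [one_mem]⟩
      inv_mem' := by
        rintro x ⟨hx, h1⟩
        refine ⟨P.inv_mem hx, fun y hy => ?_⟩
        have h3 := hV x⁻¹ (P.inv_mem hx) _ (inv_mem (h1 y hy))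
        have e : x⁻¹ * (x * y * x⁻¹ * y⁻¹)⁻¹ * x⁻¹⁻¹ = x⁻¹ * y * x⁻¹⁻¹ * y⁻¹ := by group
        rwa [e] at h3 }
  have hJK : jj (S : Subgroup G) ≤ K := by
    rw [jj_eq]
    refine sSup_le fun E hE x hx => ⟨hSP (hE.2.1 hx), fun y hy => ?_⟩
    obtain ⟨b, hb, v, hv, e⟩ := split_Y hF hE hy
    have h1 : x * b = b * x := elem_comm hE.1 x hx b hb.1
    have h2 := hV x (hSP (hE.2.1 hx)) v hv
    have h3 : b * (x * v * x⁻¹ * v⁻¹) = (x * v * x⁻¹ * v⁻¹) * b :=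
      (mem_centralizer_iff.1 hb.2 _ (mul_mem h2 (inv_mem hv))).symm
    have e1 : x * y * x⁻¹ * y⁻¹ = x * v * x⁻¹ * v⁻¹ := by
      calc x * y * x⁻¹ * y⁻¹ = (x * b) * v * x⁻¹ * v⁻¹ * b⁻¹ := by rw [e]; group
        _ = b * (x * v * x⁻¹ * v⁻¹) * b⁻¹ := by rw [h1]; group
        _ = x * v * x⁻¹ * v⁻¹ := by rw [h3]; group
    rw [e1]
    exact mul_mem h2 (inv_mem hv)
  have hEK : EP (S : Subgroup G) P ≤ K := by
    refine iSup_le fun g => ?_
    rintro _ ⟨x, hx, rfl⟩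
    refine ⟨P.mul_mem (P.mul_mem g.2 (hJK hx).1) (P.inv_mem g.2), fun y hy => ?_⟩
    have hy' : (g : G)⁻¹ * y * g ∈ zj (o2 P) := by
      have := zjP (P.inv_mem g.2) hy
      rwa [inv_inv] at this
    have h1 := hV g g.2 _ ((hJK hx).2 _ hy')
    have e : (g : G) * (x * ((g : G)⁻¹ * y * g) * x⁻¹ * ((g : G)⁻¹ * y * g)⁻¹) * (g : G)⁻¹ =
        (g * x * (g : G)⁻¹) * y * (g * x * (g : G)⁻¹)⁻¹ * y⁻¹ := by group
    rw [e] at h1
    exact h1
  exact (hEK hx).2 y hy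

/-- **LEMMA Y.** `y ∈ Y \ V`: `D = {[y, r] : r ∈ Q ∩ E_P}` is a subgroup of `V`, normalised by `E_P` and `Q`, and
contains some `W i`. -/
theorem lemY (hSP : (S : Subgroup G) ≤ P)
    (hF : Fr (bau (S : Subgroup G)) (o2 P) (zl (S : Subgroup G) P) (zj (S : Subgroup G)) L W Z C A q
      (mm (S : Subgroup G))) (hL : ∀ i, L i ≤ P) {y : G} (hy : y ∈ zj (o2 P)) :
    ∃ D : Subgroup G, D ≤ zl (S : Subgroup G) P ∧
      (∀ d, d ∈ D ↔ ∃ r ∈ o2 P ⊓ EP (S : Subgroup G) P, d = y * r * y⁻¹ * r⁻¹) ∧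
      EP (S : Subgroup G) P ≤ normalizer (D : Set G) ∧ o2 P ≤ normalizer (D : Set G) ∧
      (∀ i, L i ≤ normalizer (D : Set G)) ∧ (y ∉ zl (S : Subgroup G) P → ∃ i, W i ≤ D) := by
  have hPV : P ≤ normalizer (zl (S : Subgroup G) P : Set G) := MinSimple.VModule.le_normalizer_zl _ P
  have hV : ∀ p ∈ P, ∀ v ∈ zl (S : Subgroup G) P, p * v * p⁻¹ ∈ zl (S : Subgroup G) P := fun p hp v hv =>
    (mem_normalizer_iff.1 (hPV hp) v).1 hv
  have hPQ : ∀ p ∈ P, ∀ x ∈ o2 P, p * x * p⁻¹ ∈ o2 P := fun p hp x hx =>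
    (mem_normalizer_iff.1 (MinSimple.VModule.le_normalizer_o2 P hp) x).1 hx
  have hEPP : EP (S : Subgroup G) P ≤ P := iSup_le fun g => by
    rintro _ ⟨x, hx, rfl⟩
    exact P.mul_mem (P.mul_mem g.2 (hSP (jj_le _ hx))) (P.inv_mem g.2)
  have hcom : ∀ x ∈ EP (S : Subgroup G) P, y * x * y⁻¹ * x⁻¹ ∈ zl (S : Subgroup G) P := by
    intro x hx
    have h1 := inv_mem (comm_V hSP hF hx hy)
    have e : (x * y * x⁻¹ * y⁻¹)⁻¹ = y * x * y⁻¹ * x⁻¹ := by group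
    rwa [e] at h1
  let D : Subgroup G :=
    { carrier := {d | ∃ r ∈ o2 P ⊓ EP (S : Subgroup G) P, d = y * r * y⁻¹ * r⁻¹}
      mul_mem' := by
        rintro _ _ ⟨r, hr, rfl⟩ ⟨s, hs, rfl⟩
        refine ⟨r * s, mul_mem hr hs, ?_⟩
        have h1 := hF.cQ hr.1 (hcom s hs.2)
        calc y * r * y⁻¹ * r⁻¹ * (y * s * y⁻¹ * s⁻¹) = y * r * y⁻¹ * r⁻¹ * ((y * s * y⁻¹ * s⁻¹) * r) * r⁻¹ := by
              group
          _ = y * r * y⁻¹ * r⁻¹ * (r * (y * s * y⁻¹ * s⁻¹)) * r⁻¹ := by rw [h1]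
          _ = y * (r * s) * y⁻¹ * (r * s)⁻¹ := by group
      one_mem' := ⟨1, one_mem _, by group⟩
      inv_mem' := by
        rintro _ ⟨r, hr, rfl⟩
        refine ⟨r⁻¹, inv_mem hr, ?_⟩
        have h1 := hF.cQ (inv_mem hr.1) (inv_mem (hcom r hr.2))
        calc (y * r * y⁻¹ * r⁻¹)⁻¹ = (y * r * y⁻¹ * r⁻¹)⁻¹ * r⁻¹ * r := by group
          _ = r⁻¹ * (y * r * y⁻¹ * r⁻¹)⁻¹ * r := by rw [h1]
          _ = y * r⁻¹ * y⁻¹ * r⁻¹⁻¹ := by group }
  have hD : ∀ d, d ∈ D ↔ ∃ r ∈ o2 P ⊓ EP (S : Subgroup G) P, d = y * r * y⁻¹ * r⁻¹ := fun d => Iff.rfl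
  have hDV : D ≤ zl (S : Subgroup G) P := by
    rintro _ ⟨r, hr, rfl⟩
    exact hcom r hr.2
  have hEN : EP (S : Subgroup G) P ≤ normalizer (D : Set G) := by
    intro x hx
    refine mem_normalizer_of_cj_le ?_
    rintro _ ⟨_, ⟨r, hr, rfl⟩, rfl⟩
    refine ⟨x * r * x⁻¹, ⟨hPQ x (hEPP hx) r hr.1, (EP (S : Subgroup G) P).mul_mem
      ((EP (S : Subgroup G) P).mul_mem hx hr.2) ((EP (S : Subgroup G) P).inv_mem hx)⟩, ?_⟩
    have h1 := comm_V hSP hF hx hy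
    have hr' : x * r * x⁻¹ ∈ o2 P ⊓ EP (S : Subgroup G) P :=
      ⟨hPQ x (hEPP hx) r hr.1, (EP (S : Subgroup G) P).mul_mem
      ((EP (S : Subgroup G) P).mul_mem hx hr.2) ((EP (S : Subgroup G) P).inv_mem hx)⟩
    set v := x * y * x⁻¹ * y⁻¹ with hv
    have h2 := hF.cQ (inv_mem hr'.1) (inv_mem h1)
    have h3 := hF.Vc h1 (hcom _ hr'.2)
    show x * (y * r * y⁻¹ * r⁻¹) * x⁻¹ = _
    calc x * (y * r * y⁻¹ * r⁻¹) * x⁻¹ = v * (y * (x * r * x⁻¹) * y⁻¹) * (v⁻¹ * (x * r * x⁻¹)⁻¹) := by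
          rw [hv]; group
      _ = v * (y * (x * r * x⁻¹) * y⁻¹) * ((x * r * x⁻¹)⁻¹ * v⁻¹) := by rw [h2]
      _ = v * (y * (x * r * x⁻¹) * y⁻¹ * (x * r * x⁻¹)⁻¹) * v⁻¹ := by group
      _ = y * (x * r * x⁻¹) * y⁻¹ * (x * r * x⁻¹)⁻¹ := by rw [h3]; group
  have hQN : o2 P ≤ normalizer (D : Set G) := by
    intro x hx
    refine mem_normalizer_of_cj_le ?_
    rintro _ ⟨d, hd, rfl⟩
    have h1 := hF.cQ hx (hDV hd)
    have e : x * d * x⁻¹ = d := by rw [h1]; group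
    show x * d * x⁻¹ ∈ D
    rwa [e]
  have hBN : bau (S : Subgroup G) ≤ EP (S : Subgroup G) P ⊔ o2 P := by
    intro b hb
    obtain ⟨t, ht, hbt⟩ := exists_act hF hb
    have e : b = b * t⁻¹ * t := by group
    rw [e]
    refine mul_mem (mem_sup_right hbt) (mem_sup_left ?_)
    have h1 := le_iSup (fun g : P => cj (g : G) (jj (S : Subgroup G))) 1
    rw [OneMemClass.coe_one, cj_one] at h1
    exact h1 ((iSup_le (A_jj hF) : (⨆ i, A i) ≤ _) ht)
  have hLN : ∀ i, L i ≤ normalizer (D : Set G) := by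
    intro i
    have h1 : L i ≤ EP (S : Subgroup G) P ⊔ o2 P := by
      refine (hF.blk i).gen.trans (iSup_le fun x => ?_)
      have hxP : (x : G) ∈ P := hL i x.2
      refine (cj_mono (x : G) hBN).trans ?_
      have e1 : cj (x : G) (EP (S : Subgroup G) P ⊔ o2 P) = cj (x : G) (EP (S : Subgroup G) P) ⊔ cj (x : G) (o2 P) :=
        Subgroup.map_sup _ _ _
      rw [e1, cj_eq_of_mem_normalizer (le_normalizer_iSup_cj P _ hxP),
        cj_eq_of_mem_normalizer (MinSimple.VModule.le_normalizer_o2 P hxP)]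
    exact h1.trans (sup_le hEN hQN)
  refine ⟨D, hDV, hD, hEN, hQN, hLN, fun hyV => ?_⟩
  -- `D ≠ 1`
  have hD1 : D ≠ ⊥ := by
    intro h1
    apply hyV
    refine mem_V_of hF hy fun r hr => ?_
    have hrE : r ∈ EP (S : Subgroup G) P := by
      have h2 := le_iSup (fun g : P => cj (g : G) (jj (S : Subgroup G))) 1
      rw [OneMemClass.coe_one, cj_one] at h2
      exact h2 hr.2
    have h2 : y * r * y⁻¹ * r⁻¹ ∈ D := ⟨r, ⟨hr.1, hrE⟩, rfl⟩
    rw [h1, mem_bot] at h2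
    exact (mul_inv_eq_iff_eq_mul.1 (mul_inv_eq_one.1 h2)).symm
  have hDel : IsElementaryAbelian 2 D := isElementaryAbelian_mono hF.el hDV
  obtain ⟨z, hz, hz1, hzB⟩ := FrSym.exists_fix (S.isPGroup'.to_le (bau_le (S : Subgroup G))) hDel hD1
    fun x hx v hv => (mem_normalizer_iff.1 ((hBN.trans (sup_le hEN hQN)) hx) v).1 hv
  have hzJ : z ∈ zj (S : Subgroup G) := (hF.mem_ZJ z).2 ⟨hDV hz, fun b hb => mul_inv_eq_iff_eq_mul.1 (hzB b hb)⟩
  obtain ⟨i, hi⟩ : ∃ i, z ∉ C i := by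
    by_contra hcon
    push Not at hcon
    exact hz1 (hF.C0 z (hDV hz) hcon)
  refine ⟨i, ?_⟩
  obtain ⟨w, hw, c, hc, hcJ, e⟩ := hF.split_ZJ i hzJ
  have hw1 : w ≠ 1 := by
    rintro rfl
    rw [one_mul] at e
    exact hi (e ▸ hc)
  obtain ⟨l, hl, hmv⟩ := hF.exists_mv i
  have hlc := hF.LC i l hl c hcJ hc
  have hlN : ∀ d ∈ D, l * d * l⁻¹ ∈ D := fun d hd => (mem_normalizer_iff.1 (hLN i hl) d).1 hd
  have hd : l * w * l⁻¹ * w⁻¹ ∈ D := by
    have h1 := mul_mem (hlN z hz) (inv_mem hz)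
    have e1 : l * z * l⁻¹ * z⁻¹ = l * w * l⁻¹ * w⁻¹ := by
      calc l * z * l⁻¹ * z⁻¹ = l * w * (c * l⁻¹) * c⁻¹ * w⁻¹ := by rw [e]; group
        _ = l * w * (l⁻¹ * c) * c⁻¹ * w⁻¹ := by
          have : c * l⁻¹ = l⁻¹ * c := by
            calc c * l⁻¹ = l⁻¹ * (l * c) * l⁻¹ := by group
              _ = l⁻¹ * c := by rw [hlc]; group
          rw [this]
        _ = l * w * l⁻¹ * w⁻¹ := by group
    rwa [e1] at h1
  have hwW : w ∈ W i := (hF.blk i).ZV hw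
  have hdW : l * w * l⁻¹ * w⁻¹ ∈ W i := mul_mem ((hF.blk i).nV l hl w hwW) (inv_mem hwW)
  have hdZ : l * w * l⁻¹ * w⁻¹ ∉ Z i := by
    intro h1
    have h2 : l * w * l⁻¹ ∈ Z i := by
      have := mul_mem h1 hw
      rwa [inv_mul_cancel_right] at this
    have h3 : l * w * l⁻¹ ∈ cj l (Z i) ⊓ Z i := ⟨⟨w, hw, rfl⟩, h2⟩
    rw [hF.tri' hl hmv, mem_bot] at h3
    apply hw1
    calc w = l⁻¹ * (l * w * l⁻¹) * l := by group
      _ = 1 := by rw [h3]; group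
  -- `Z i ≤ D`
  have hZD : Z i ≤ D := by
    obtain ⟨R, hR1, hR2, hR3, hR4⟩ := (hF.blk i).toMd.relIndex_comm (hF.AB i) hdW hdZ
    have hR : R = Z i := by
      refine Subgroup.eq_of_le_of_card_ge hR1 ?_
      have h2 := (hF.A_full i).2.2
      rw [← hR4] at h2
      have h3 := Nat.eq_of_mul_eq_mul_right Nat.card_pos h2
      rw [← h3, hF.cardZ i]
    rw [← hR]
    intro r hr
    obtain ⟨a, ha, rfl⟩ := hR2 r hr
    exact mul_mem ((mem_normalizer_iff.1 ((hBN.trans (sup_le hEN hQN)) (hF.AB i ha)) _).1 hd) (inv_mem hd)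
  obtain ⟨k, hk, hs⟩ := (hF.blk i).sup
  rw [hF.comm_W i] at hs
  refine hs.trans (sup_le hZD ?_)
  rintro _ ⟨z', hz', rfl⟩
  exact (mem_normalizer_iff.1 (hLN i hk) _).1 (hZD hz')

/-- **LEMMA Y**, as used: if `[y, Q] ≤ X` and `X` contains no `W i`, then `y ∈ V`. -/
theorem mem_V_of_comm (hSP : (S : Subgroup G) ≤ P)
    (hF : Fr (bau (S : Subgroup G)) (o2 P) (zl (S : Subgroup G) P) (zj (S : Subgroup G)) L W Z C A q
      (mm (S : Subgroup G))) (hL : ∀ i, L i ≤ P) {y : G} (hy : y ∈ zj (o2 P)) {X : Set G}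
    (hX : ∀ r ∈ o2 P, y * r * y⁻¹ * r⁻¹ ∈ X) (hW : ∀ i, ¬ (W i : Set G) ⊆ X) : y ∈ zl (S : Subgroup G) P := by
  by_contra hyV
  obtain ⟨D, -, hD, -, -, -, h1⟩ := lemY hSP hF hL hy
  obtain ⟨i, hi⟩ := h1 hyV
  refine hW i fun w hw => ?_
  obtain ⟨r, hr, rfl⟩ := (hD w).1 (hi hw)
  exact hX r hr.1

end

/-! ### The frames with `L i ≤ P` -/

theorem fr_nat {S : Sylow 2 G} {P : Subgroup G} (h : NO3S.HypJ S P) {F : Type} [Field F] [Finite F] [CharP F 2]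
    {k : ℕ} (hk : 0 < k)
    (N : FFThm.NatK F (S : Subgroup G) P (zl (S : Subgroup G) P) (FrameFF.cv (S : Subgroup G) P) k) :
    ∃ L W Z C A : Fin k → Subgroup G, (∀ i, L i ≤ P) ∧
      (∀ i v, v ∈ W i ↔ v ∈ zl (S : Subgroup G) P ∧ ∀ j, j ≠ i → N.e v j = 0) ∧
      (∀ i v, v ∈ C i ↔ v ∈ zl (S : Subgroup G) P ∧ N.e v i = 0) ∧
      (∀ i v, v ∈ Z i ↔ v ∈ W i ∧ N.e v i 1 = 0) ∧
      Fr (bau (S : Subgroup G)) (o2 P) (zl (S : Subgroup G) P) (zj (S : Subgroup G)) L W Z C A (Nat.card F)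
        (mm (S : Subgroup G)) := by
  obtain ⟨L, Z, A, h1, -, -, hZ, hF⟩ := Uni.natFr h.toHyp.syl h.star.toIsMinPar
    (h.star.isLoc.char2 S h.ctx.char2) h.jnot hk N h.toHyp.cv (Uni.mx_sylow S)
  exact ⟨L, _, Z, _, A, fun i l hl => (h1 i hl).1, fun i v => Iff.rfl, fun i v => Iff.rfl, hZ, hF⟩

theorem fr_sym {S : Sylow 2 G} {P : Subgroup G} (h : NO3S.HypJ S P) {k m : ℕ} (hk : 0 < k) (hm : 2 ≤ m)
    (N : FFThm.SymK (S : Subgroup G) P (zl (S : Subgroup G) P) (FrameFF.cv (S : Subgroup G) P) k m) :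
    ∃ (ι : Type) (_ : Finite ι) (W : ι → Subgroup G) (d t r : ι → G) (L A : ι → Subgroup G),
      SymOut (S : Subgroup G) P (zl (S : Subgroup G) P) W d t r ∧ (∀ i, L i ≤ P) ∧
      Line S P L W (fun i => zpowers (d i)) (fun i => FrSym.CC W i) A 2 := by
  obtain ⟨ι, hfin, W, d, t, r, L, A, h1, h2, -, -, h3⟩ := Line.exists_sym h hk hm N
  exact ⟨ι, hfin, W, d, t, r, L, A, h1, fun i => (h2 i).LP.trans (h1.bau.PP_le i), h3⟩

end Cfsg.Agent.Omega.OM.NJQ
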