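import Cfsg.Agent.Omega.SQ1.FFOne
import Cfsg.Agent.Omega.OM.WeakCl
import Cfsg.Agent.MinSimple.VModule

/-!
# Subnormal subgroups acting as 2-groups centralise `⟨Ω₁Z(S)^H⟩`

`S` a Sylow 2-subgroup of `H`, `K ⊴ D ⊴ H`, `U` an `H`-invariant subgroup containing `Ω₁Z(S)`, the squares of the
elements of `K` centralise `U`.  Then `K` centralises `⟨Ω₁Z(S)^H⟩ = zl S H`.
-/

set_option autoImplicit false

namespace Cfsg.Agent.Omega.OM.NJQ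

open Subgroup Cfsg Cfsg.Agent.ZN Cfsg.Agent.ZN.ChoiceBase Cfsg.Agent.ZN.ChoiceSit
open Cfsg.Agent.Omega.SQ1.FFOne (syl_inf)

universe u

variable {G : Type u} [Group G] [Finite G]

theorem cent_zc {S H D K U : Subgroup G} (hS : Syl S H) (hD : D ≤ H) (hHD : ∀ h ∈ H, ∀ d ∈ D, h * d * h⁻¹ ∈ D)
    (hK : K ≤ D) (hDK : ∀ d ∈ D, ∀ k ∈ K, d * k * d⁻¹ ∈ K) (hKU : ∀ k ∈ K, ∀ x ∈ U, k * x * k⁻¹ ∈ U)
    (hZU : zc S ≤ U) (h2 : ∀ k ∈ K, ∀ x ∈ U, k ^ 2 * x = x * k ^ 2) :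
    ∀ k ∈ K, ∀ z ∈ zc S, k * z = z * k := by
  intro k hk z hz
  have h1 : Syl (S ⊓ D ⊓ K) K := syl_inf (syl_inf hS hD hHD) hK hDK
  obtain ⟨T, hT⟩ := syl_iff.1 h1
  have h3 := WeakCl.eq_mod_aux (P := K) (C := K ⊓ centralizer (U : Set G)) (fun c hc p hp => ?_) (fun p hp => ?_) T k hk
  · obtain ⟨t, ht, c, hc, rfl⟩ := h3
    rw [hT] at ht
    have e1 : t * z = z * t := (mem_zc.1 hz).2.2 t ht.1.1
    have e2 : c * z = z * c := (mem_centralizer_iff.1 hc.2 z (hZU hz)).symm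
    rw [mul_assoc, e2, ← mul_assoc, e1, mul_assoc]
  · refine ⟨K.mul_mem (K.mul_mem hp hc.1) (K.inv_mem hp), mem_centralizer_iff.2 fun x hx => ?_⟩
    have h4 : p⁻¹ * x * p ∈ U := by
      have := hKU p⁻¹ (inv_mem hp) x hx
      rwa [inv_inv] at this
    have h5 := mem_centralizer_iff.1 hc.2 _ h4
    calc x * (p * c * p⁻¹) = p * ((p⁻¹ * x * p) * c) * p⁻¹ := by group
      _ = p * (c * (p⁻¹ * x * p)) * p⁻¹ := by rw [h5]
      _ = p * c * p⁻¹ * x := by group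
  · refine ⟨1, ?_⟩
    rw [pow_one]
    exact ⟨pow_mem hp 2, mem_centralizer_iff.2 fun x hx => (h2 p hp x hx).symm⟩

theorem cent_zl {S H D K U : Subgroup G} (hS : Syl S H) (hD : D ≤ H) (hHD : ∀ h ∈ H, ∀ d ∈ D, h * d * h⁻¹ ∈ D)
    (hK : K ≤ D) (hDK : ∀ d ∈ D, ∀ k ∈ K, d * k * d⁻¹ ∈ K) (hHU : ∀ h ∈ H, ∀ x ∈ U, h * x * h⁻¹ ∈ U)
    (hZU : zc S ≤ U) (h2 : ∀ k ∈ K, ∀ x ∈ U, k ^ 2 * x = x * k ^ 2) :
    K ≤ centralizer (zl S H : Set G) := by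
  intro k hk
  have h0 : zl S H ≤ centralizer ({k} : Set G) := by
    refine iSup_le fun g => ?_
    rintro _ ⟨z, hz, rfl⟩
    have hg := g.2
    set h : G := (g : G) with hh
    have h1 : h⁻¹ * k * h * z = z * (h⁻¹ * k * h) := by
      refine cent_zc (S := S) (H := H) (D := D) (K := cj h⁻¹ K) (U := U) hS hD hHD ?_ ?_ ?_ hZU ?_ _ ?_ z hz
      · rintro _ ⟨x, hx, rfl⟩
        exact hHD _ (inv_mem hg) x (hK hx)
      · rintro d hd _ ⟨x, hx, rfl⟩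
        refine ⟨(h * d * h⁻¹) * x * (h * d * h⁻¹)⁻¹, hDK _ (hHD h hg d hd) x hx, ?_⟩
        simp only [MulEquiv.coe_toMonoidHom, MulAut.conj_apply]
        group
      · rintro _ ⟨x, hx, rfl⟩ y hy
        exact hHU _ (hD (hHD _ (inv_mem hg) x (hK hx))) y hy
      · rintro _ ⟨x, hx, rfl⟩ y hy
        have h3 := h2 x hx (h * y * h⁻¹) (hHU h hg y hy)
        simp only [MulEquiv.coe_toMonoidHom, MulAut.conj_apply]
        calc (h⁻¹ * x * h⁻¹⁻¹) ^ 2 * y = h⁻¹ * (x ^ 2 * (h * y * h⁻¹)) * h := by rw [pow_two, pow_two]; group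
          _ = h⁻¹ * ((h * y * h⁻¹) * x ^ 2) * h := by rw [h3]
          _ = y * (h⁻¹ * x * h⁻¹⁻¹) ^ 2 := by rw [pow_two, pow_two]; group
      · rw [mem_cj]
        have e : h⁻¹⁻¹ * (h⁻¹ * k * h) * h⁻¹ = k := by group
        rwa [e]
    rw [mem_centralizer_iff]
    intro y hy
    rw [Set.mem_singleton_iff.1 hy]
    simp only [MulEquiv.coe_toMonoidHom, MulAut.conj_apply]
    calc k * (h * z * h⁻¹) = h * (h⁻¹ * k * h * z) * h⁻¹ := by group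
      _ = h * (z * (h⁻¹ * k * h)) * h⁻¹ := by rw [h1]
      _ = h * z * h⁻¹ * k := by group
  exact mem_centralizer_iff.2 fun x hx => (mem_centralizer_iff.1 (h0 hx) k rfl).symm

end Cfsg.Agent.Omega.OM.NJQ
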