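import Cfsg.Agent.Omega.OM.NJQ.Mod
import Cfsg.Agent.Omega.OM.NJQ.Sub
import Cfsg.Agent.Omega.SQ1.Bau
import Cfsg.Agent.Omega.OM.FrSym
import Cfsg.Agent.Omega.OM.SitUni

/-!
# THEOREM NJQ (bb OMEGA #20560 (C), (D)): `N_G(J(O₂(P))) ≤ N_G(V_P)`

`P` a minimal parabolic over `S`, `V = zl S P`, `Q = O₂(P) = C_S(V)`, `Ω₁(Z(Q)) = V`, `C_Z(P) = 1`, and there is an
exact `A ∈ A(S)`: `|A : C_A(V)| = 2`, `[V, A] = ⟨u⟩`, `C_A(V) V ∈ A(S)`.

* `Hyp.zl_le` : `S` Sylow in `H ≥ P`, `H ≤ N(J(Q))` : `⟨Ω₁Z(S)^H⟩ = V`;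
* `Hyp.eq_of_cent` : `J(Q)` centralises `V^g` ⟹ `V^g = V` (if `S` is a Sylow 2-subgroup of `G`).
-/

set_option autoImplicit false

namespace Cfsg.Agent.Omega.OM.NJQ

open Subgroup Cfsg Cfsg.Agent.ZN.ChoiceBase Cfsg.Agent.ZN.ChoiceSit
open Cfsg.Agent.ZN (jj zj bau zc zl o2)
open Cfsg.Agent.MinSimple.MinParabolic (IsMinPar)
open Cfsg.Agent.Omega.SQ1.FFOne (syl_inf)
open Cfsg.Agent.PLocal.ThompsonJ (isElementaryAbelian_iff)
open Cfsg.Agent.Omega.SQ1.Bau (mem_AA_of_comm zj_le_AA elem_comm elem_sq mem_sup_comm)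

universe u

variable {G : Type u} [Group G]

/-- The hypotheses of THEOREM NJQ. -/
structure Hyp (S P A : Subgroup G) (u : G) : Prop where
  par : IsMinPar S P
  two : IsPGroup 2 S
  odd : ¬ 2 ∣ S.relIndex P
  self : P ⊓ centralizer ((o2 P : Subgroup G) : Set G) ≤ o2 P
  cS : S ⊓ centralizer (zl S P : Set G) = o2 P
  zQ : ∀ x ∈ o2 P, x ^ 2 = 1 → (∀ y ∈ o2 P, x * y = y * x) → x ∈ zl S P
  cZ : ∀ z ∈ zc S, (∀ p ∈ P, p * z = z * p) → z = 1
  mem : A ∈ AA S
  rep : (A ⊓ centralizer (zl S P : Set G)) ⊔ zl S P ∈ AA S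
  uV : u ∈ zl S P
  tr : ∀ a ∈ A, ∀ v ∈ zl S P, a * v * a⁻¹ = v ∨ a * v * a⁻¹ = v * u
  mv : ∃ a ∈ A, ∃ v ∈ zl S P, a * v ≠ v * a
  ind : ∀ a ∈ A, ∀ b ∈ A, a ∉ centralizer (zl S P : Set G) → b ∉ centralizer (zl S P : Set G) →
    a * b ∈ centralizer (zl S P : Set G)

namespace Hyp

variable {S P A : Subgroup G} {u : G}

theorem u_ne (h : Hyp S P A u) : u ≠ 1 := by
  rintro rfl
  obtain ⟨a, ha, v, hv, hne⟩ := h.mv
  rcases h.tr a ha v hv with h1 | h1
  · exact hne (mul_inv_eq_iff_eq_mul.1 h1)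
  · rw [mul_one] at h1
    exact hne (mul_inv_eq_iff_eq_mul.1 h1)

variable [Finite G]

theorem QS (h : Hyp S P A u) : o2 P ≤ S := MinSimple.VModule.o2_le_of_sylow h.two h.odd

theorem VZ (h : Hyp S P A u) : zl S P ≤ zc (o2 P) := MinSimple.VModule.zl_le_zc h.par.le h.two h.odd h.self

theorem VQ (h : Hyp S P A u) : zl S P ≤ o2 P := h.VZ.trans (MinSimple.VModule.zc_le _)

theorem cQ (h : Hyp S P A u) {x v : G} (hx : x ∈ o2 P) (hv : v ∈ zl S P) : x * v = v * x :=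
  (mem_zc.1 (h.VZ hv)).2.2 x hx

theorem Vsq (h : Hyp S P A u) {v : G} (hv : v ∈ zl S P) : v ^ 2 = 1 := (mem_zc.1 (h.VZ hv)).2.1

theorem le_o2' (h : Hyp S P A u) : (A ⊓ centralizer (zl S P : Set G)) ⊔ zl S P ≤ o2 P :=
  sup_le (fun x hx => by rw [← h.cS]; exact ⟨h.mem.2.1 hx.1, hx.2⟩) h.VQ

/-- `A(S)` and `A(Q)` -/
theorem AA_of (h : Hyp S P A u) {E : Subgroup G} (hE : IsElementaryAbelian 2 E) (hc : Nat.card A ≤ Nat.card E)
    (hQ : E ≤ o2 P) : E ∈ AA (o2 P) :=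
  ⟨hE, hQ, fun B hB hBQ => (h.mem.2.2 B hB (hBQ.trans h.QS)).trans hc⟩

theorem rep' (h : Hyp S P A u) : (A ⊓ centralizer (zl S P : Set G)) ⊔ zl S P ∈ AA (o2 P) :=
  h.AA_of h.rep.1 (h.rep.2.2 A h.mem.1 h.mem.2.1) h.le_o2'

theorem card_Q (h : Hyp S P A u) {E : Subgroup G} (hE : E ∈ AA (o2 P)) : Nat.card E = Nat.card A :=
  le_antisymm (h.mem.2.2 E hE.1 (hE.2.1.trans h.QS))
    ((h.rep.2.2 A h.mem.1 h.mem.2.1).trans (hE.2.2 _ h.rep'.1 h.rep'.2.1))

theorem V_zj (h : Hyp S P A u) : zl S P ≤ zj (o2 P) := fun v hv =>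
  mem_zj.2 ⟨le_jj h.rep' (mem_sup_right hv), h.Vsq hv, fun _ hy => h.cQ (jj_le _ hy) hv⟩

theorem zjQ (h : Hyp S P A u) : zj (o2 P) ≤ o2 P := fun _ hx => jj_le _ (mem_zj.1 hx).1

/-- `[Ω₁Z(J(Q)), A] ≤ ⟨u⟩` -/
theorem trY (h : Hyp S P A u) {a y : G} (ha : a ∈ A) (hy : y ∈ zj (o2 P)) :
    a * y * a⁻¹ = y ∨ a * y * a⁻¹ = y * u := by
  obtain ⟨b, hb, v, hv, rfl⟩ := mem_sup_comm (A := A ⊓ centralizer (zl S P : Set G)) (B := zl S P)
    (fun x hx w hw => (mem_centralizer_iff.1 (mem_inf.1 hx).2 w hw).symm) (zj_le_AA h.rep' hy)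
  have e : a * (b * v) * a⁻¹ = b * (a * v * a⁻¹) := by
    calc a * (b * v) * a⁻¹ = a * b * v * a⁻¹ := by group
      _ = b * a * v * a⁻¹ := by rw [elem_comm h.mem.1 a ha b hb.1]
      _ = b * (a * v * a⁻¹) := by group
  rcases h.tr a ha v hv with h1 | h1
  · left; rw [e, h1]
  · right; rw [e, h1]; group

/-- elements of `A` centralising `V` centralise `Ω₁Z(J(Q))` -/
theorem centY (h : Hyp S P A u) {a y : G} (ha : a ∈ A) (hc : a ∈ centralizer (zl S P : Set G))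
    (hy : y ∈ zj (o2 P)) : a * y = y * a :=
  (mem_zj.1 hy).2.2 a (le_jj h.rep' (mem_sup_left ⟨ha, hc⟩))

/-- The normal closure of `A` in `P` has no nontrivial fixed point on `P`-invariant subgroups of `Ω₁Z(J(Q))`. -/
theorem fix (h : Hyp S P A u) {X : Subgroup G} (hX : X ≤ zj (o2 P)) (hPX : ∀ p ∈ P, ∀ x ∈ X, p * x * p⁻¹ ∈ X)
    (hc : ∀ p ∈ P, ∀ a ∈ A, ∀ x ∈ X, (p * a * p⁻¹) * x = x * (p * a * p⁻¹)) : X = ⊥ := by
  have h2 : Fact (Nat.Prime 2) := ⟨Nat.prime_two⟩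
  by_contra hne
  have hXe : IsElementaryAbelian 2 X := isElementaryAbelian_iff.2
    ⟨fun a ha b hb => (mem_zj.1 (hX hb)).2.2 a (mem_zj.1 (hX ha)).1, fun a ha => (mem_zj.1 (hX ha)).2.1⟩
  obtain ⟨z, hz, hz1, hzS⟩ := FrSym.exists_fix h.two hXe hne fun x hx v hv => hPX x (h.par.le hx) v hv
  have hzc : z ∈ zc S := mem_zc.2 ⟨h.QS (h.zjQ (hX hz)), (mem_zj.1 (hX hz)).2.1, fun y hy =>
    mul_inv_eq_iff_eq_mul.1 (hzS y hy)⟩
  set N : Subgroup G := ⨆ g : P, cj (g : G) A with hN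
  have hNP : N ≤ P := iSup_le fun g => by
    rintro _ ⟨a, ha, rfl⟩
    exact P.mul_mem (P.mul_mem g.2 (h.par.le (h.mem.2.1 ha))) (P.inv_mem g.2)
  have hAN : A ≤ N := by
    have := le_iSup (fun g : P => cj (g : G) A) 1
    rwa [OneMemClass.coe_one, cj_one] at this
  rcases h.par.sup_eq_or_inf_le (p := 2) h.two h.odd hNP (le_normalizer_iSup_cj P A) with h1 | h1
  · apply hz1
    refine h.cZ z hzc fun p hp => ?_
    have h3 : N ⊔ S ≤ centralizer ({z} : Set G) := by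
      refine sup_le (iSup_le fun g => ?_) fun s hs => ?_
      · rintro _ ⟨a, ha, rfl⟩
        rw [mem_centralizer_iff]
        intro y hy
        rw [Set.mem_singleton_iff.1 hy]
        exact (hc g g.2 a ha z hz).symm
      · rw [mem_centralizer_iff]
        intro y hy
        rw [Set.mem_singleton_iff.1 hy]
        exact ((mem_zc.1 hzc).2.2 s hs).symm
    rw [h1] at h3
    exact (mem_centralizer_iff.1 (h3 hp) z rfl).symm
  · obtain ⟨a, ha, v, hv, hne'⟩ := h.mv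
    exact hne' (h.cQ (h1 ⟨h.mem.2.1 ha, hAN ha⟩) hv)

/-! ### The theorem -/

section main

variable {H : Subgroup G}

/-- the elements inducing the transvections -/
def TT (S P A H : Subgroup G) : Set H :=
  {t | ∃ h ∈ H, ∃ a ∈ A, a ∉ centralizer (zl S P : Set G) ∧ (t : G) = h * a * h⁻¹}

theorem zjH (hH : H ≤ normalizer (jj (o2 P) : Set G)) {g y : G} (hg : g ∈ H) (hy : y ∈ zj (o2 P)) :
    g * y * g⁻¹ ∈ zj (o2 P) := by
  obtain ⟨h1, h2, h3⟩ := mem_zj.1 hy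
  refine mem_zj.2 ⟨(mem_normalizer_iff.1 (hH hg) y).1 h1, ?_, fun x hx => ?_⟩
  · rw [pow_two] at h2 ⊢
    calc g * y * g⁻¹ * (g * y * g⁻¹) = g * (y * y) * g⁻¹ := by group
      _ = 1 := by rw [h2]; group
  · have h4 : g⁻¹ * x * g ∈ jj (o2 P) := by
      have := (mem_normalizer_iff.1 (hH (inv_mem hg)) x).1 hx
      rwa [inv_inv] at this
    have h5 := h3 _ h4
    calc x * (g * y * g⁻¹) = g * (g⁻¹ * x * g * y) * g⁻¹ := by group
      _ = g * (y * (g⁻¹ * x * g)) * g⁻¹ := by rw [h5]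
      _ = g * y * g⁻¹ * x := by group

theorem zl_zj (h : Hyp S P A u) (hH : H ≤ normalizer (jj (o2 P) : Set G)) : zl S H ≤ zj (o2 P) := by
  refine iSup_le fun g => ?_
  rintro _ ⟨z, hz, rfl⟩
  exact zjH hH g.2 (h.V_zj (zc_le_zl _ _ hz))

theorem modD (h : Hyp S P A u) (hH : H ≤ normalizer (jj (o2 P) : Set G)) : ModD H (zl S H) where
  comm x hx y hy := (mem_zj.1 (zl_zj h hH hy)).2.2 x (mem_zj.1 (zl_zj h hH hx)).1
  sq x hx := by
    have := (mem_zj.1 (zl_zj h hH hx)).2.1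
    rwa [pow_two] at this
  norm g hg x hx := (mem_normalizer_iff.1 (MinSimple.VModule.le_normalizer_zl S H hg) x).1 hx

theorem zl_mono (hPH : P ≤ H) : zl S P ≤ zl S H := by
  refine iSup_le fun g => ?_
  exact le_iSup (fun g : H => (zc S).map (MulAut.conj (g : G)).toMonoidHom) ⟨g, hPH g.2⟩

/-- **THEOREM NJQ.** -/
theorem zl_le (h : Hyp S P A u) (hS : Syl S H) (hPH : P ≤ H) (hH : H ≤ normalizer (jj (o2 P) : Set G)) :
    zl S H ≤ zl S P := by
  classical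
  have hm := modD h hH
  have hSP := h.par.le
  have hVU : zl S P ≤ zl S H := zl_mono hPH
  have hAP : A ≤ P := h.mem.2.1.trans hSP
  have hQP : o2 P ≤ P := MinSimple.VModule.o2_le P
  by_contra hnot
  obtain ⟨x₀, hx₀, hx₀V⟩ := SetLike.not_le_iff_exists.1 hnot
  -- `Q` moves `U`
  obtain ⟨x, hx, r, hr, hxr⟩ : ∃ x ∈ zl S H, ∃ r ∈ o2 P, x * r ≠ r * x := by
    by_contra hcon
    push Not at hcon
    exact hx₀V (h.zQ x₀ (h.zjQ (zl_zj h hH hx₀)) (mem_zj.1 (zl_zj h hH hx₀)).2.1 (hcon x₀ hx₀))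
  -- a conjugate of `A` moves `[x, r]`
  obtain ⟨x, hx, r, hr, p, hp, a, ha, hmv⟩ : ∃ x ∈ zl S H, ∃ r ∈ o2 P, ∃ p ∈ P, ∃ a ∈ A,
      (p * a * p⁻¹) * (r * x * r⁻¹ * x⁻¹) ≠ (r * x * r⁻¹ * x⁻¹) * (p * a * p⁻¹) := by
    by_contra hcon
    push Not at hcon
    let Y : Set G := {y | ∃ x ∈ zl S H, ∃ r ∈ o2 P, y = r * x * r⁻¹ * x⁻¹}
    have hYU : ∀ y ∈ Y, y ∈ zl S H := by
      rintro y ⟨x, hx, r, hr, rfl⟩
      exact mul_mem (hm.norm r (hPH (hQP hr)) x hx) (inv_mem hx)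
    have h1 : closure Y = ⊥ := by
      refine h.fix ((closure_le _).2 fun y hy => zl_zj h hH (hYU y hy)) ?_ ?_
      · intro p hp y hy
        have h2 : closure Y ≤ cj p⁻¹ (closure Y) := by
          rw [closure_le]
          rintro y ⟨x, hx, r, hr, rfl⟩
          refine mem_cj.2 ?_
          refine subset_closure ⟨p * x * p⁻¹, hm.norm p (hPH hp) x hx, p * r * p⁻¹,
            (mem_normalizer_iff.1 (MinSimple.VModule.le_normalizer_o2 P hp) r).1 hr, ?_⟩
          group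
        have h3 := mem_cj.1 (h2 hy)
        rwa [inv_inv] at h3
      · intro p hp a ha y hy
        have h2 : closure Y ≤ centralizer ({p * a * p⁻¹} : Set G) := by
          rw [closure_le]
          rintro y ⟨x, hx, r, hr, rfl⟩
          refine mem_centralizer_iff.2 fun w hw => ?_
          rw [Set.mem_singleton_iff.1 hw]
          exact hcon x hx r hr p hp a ha
        exact mem_centralizer_iff.1 (h2 hy) _ rfl
    have h2 : r * x * r⁻¹ * x⁻¹ ∈ closure Y := subset_closure ⟨x, hx, r, hr, rfl⟩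
    rw [h1, mem_bot] at h2
    apply hxr
    have h3 : r * x = x * r := by
      have := mul_inv_eq_one.1 h2
      exact mul_inv_eq_iff_eq_mul.1 this
    exact h3.symm
  have hpaH : p * a * p⁻¹ ∈ H := hPH (P.mul_mem (P.mul_mem hp (hAP ha)) (P.inv_mem hp))
  have hrH : r ∈ H := hPH (hQP hr)
  -- `a` moves `V`
  have haV : a ∉ centralizer (zl S P : Set G) := by
    intro hc
    apply hmv
    have hy : p⁻¹ * (r * x * r⁻¹ * x⁻¹) * p ∈ zj (o2 P) := by
      have h1 : r * x * r⁻¹ * x⁻¹ ∈ zj (o2 P) :=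
        mul_mem (zl_zj h hH (hm.norm r hrH x hx)) (inv_mem (zl_zj h hH hx))
      have h2 := zjH (P := P) hH (hPH (P.inv_mem hp)) h1
      rwa [inv_inv] at h2
    have h1 := h.centY ha hc hy
    calc p * a * p⁻¹ * (r * x * r⁻¹ * x⁻¹) = p * (a * (p⁻¹ * (r * x * r⁻¹ * x⁻¹) * p)) * p⁻¹ := by group
      _ = p * ((p⁻¹ * (r * x * r⁻¹ * x⁻¹) * p) * a) * p⁻¹ := by rw [h1]
      _ = r * x * r⁻¹ * x⁻¹ * (p * a * p⁻¹) := by group
  -- the transvections
  have htv : ∀ (g : G) (hg : g ∈ H) (b : G) (hb : b ∈ A) (t : H), (t : G) = g * b * g⁻¹ →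
      ∃ (f : EM hm →ₗ[ZMod 2] ZMod 2) (c : EM hm), c ≠ 0 ∧ c.val = g * u * g⁻¹ ∧ IsTv t f c := by
    intro g hg b hb t ht
    have huU : g * u * g⁻¹ ∈ zl S H := hm.norm g hg u (hVU h.uV)
    have hc : EM.mk hm _ huU ≠ 0 := by
      intro e
      have h1 : g * u * g⁻¹ = 1 := by
        have := EM.val_eq_one.2 e
        rwa [EM.val_mk] at this
      apply h.u_ne
      calc u = g⁻¹ * (g * u * g⁻¹) * g := by group
        _ = 1 := by rw [h1]; group
    obtain ⟨f, hf⟩ := exists_isTv (k := t) hc (fun y => by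
      have hy := zl_zj h hH (hm.norm g⁻¹ (inv_mem hg) _ y.val_mem)
      rw [inv_inv] at hy
      have e : (t • y).val = g * (b * (g⁻¹ * y.val * g) * b⁻¹) * g⁻¹ := by
        rw [EM.val_smul, ht]; group
      rcases h.trY hb hy with h1 | h1
      · left
        rw [← EM.val_inj, e, h1]; group
      · right
        rw [← EM.val_inj, e, h1, EM.val_add, EM.val_mk]; group)
    exact ⟨f, _, hc, EM.val_mk _, hf⟩
  set T : Set H := TT S P A H with hT
  set D : Subgroup H := closure T with hD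
  have hconj : ∀ t ∈ T, ∀ d : H, d * t * d⁻¹ ∈ T := by
    rintro t ⟨g, hg, b, hb, hbV, e⟩ d
    refine ⟨(d : G) * g, H.mul_mem d.2 hg, b, hb, hbV, ?_⟩
    simp only [Subgroup.coe_mul, Subgroup.coe_inv, e]
    group
  have hDn : ∀ d ∈ D, ∀ g : H, g * d * g⁻¹ ∈ D := by
    intro d hd g
    have h1 : D ≤ cj g⁻¹ D := by
      rw [hD, closure_le]
      intro t ht
      refine mem_cj.2 ?_
      rw [inv_inv]
      exact subset_closure (hconj t ht g)
    have h2 := mem_cj.1 (h1 hd)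
    rwa [inv_inv] at h2
  -- the transvection `[r, a]`
  set t₁ : H := ⟨p * a * p⁻¹, hpaH⟩ with ht₁
  set ρ : H := ⟨r, hrH⟩ with hρ
  have ht₁T : t₁ ∈ T := ⟨p, hPH hp, a, ha, haV, rfl⟩
  obtain ⟨g, c, hc, hcv, htg⟩ := htv p (hPH hp) a ha t₁ rfl
  have hgc : g c = 0 := htg.gc hc
  have hcV : p * u * p⁻¹ ∈ zl S P := (mem_normalizer_iff.1 (MinSimple.VModule.le_normalizer_zl S P hp) u).1 h.uV
  have hρV : ∀ y : EM hm, y.val ∈ zl S P → ρ • y = y := by
    intro y hy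
    rw [← EM.val_inj, EM.val_smul]
    show r * y.val * r⁻¹ = y.val
    rw [h.cQ hr hy]; group
  have hρV' : ∀ y : EM hm, y.val ∈ zl S P → ρ⁻¹ • y = y := by
    intro y hy
    rw [inv_smul_eq_iff, hρV y hy]
  have hρc : ρ • c = c := hρV c (by rw [hcv]; exact hcV)
  let Lρ : EM hm →ₗ[ZMod 2] EM hm :=
    { toFun := fun y => ρ⁻¹ • y
      map_add' := fun y z => smul_add _ _ _
      map_smul' := fun k y => by
        rcases z2 k with rfl | rfl
        · rw [zero_smul, RingHom.id_apply, zero_smul, smul_zero]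
        · rw [one_smul, RingHom.id_apply, one_smul] }
  set f : EM hm →ₗ[ZMod 2] ZMod 2 := g.comp Lρ + g with hf
  have hfv : ∀ y, f y = g (ρ⁻¹ • y) + g y := fun y => rfl
  have hsv : IsTv (ρ * t₁ * ρ⁻¹ * t₁⁻¹) f c := by
    intro y
    have e1 : t₁⁻¹ • y = y + g y • c := htg.inv hgc y
    have e2 : ∀ z, (ρ * t₁ * ρ⁻¹) • z = z + g (ρ⁻¹ • z) • c := by
      intro z
      rw [mul_smul, mul_smul, htg, smul_add, smul_inv_smul]
      congr 1
      rcases z2 (g (ρ⁻¹ • z)) with h1 | h1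
      · rw [h1, zero_smul, smul_zero]
      · rw [h1, one_smul, hρc]
    have e3 : g (ρ⁻¹ • (y + g y • c)) = g (ρ⁻¹ • y) := by
      have h1 : ρ⁻¹ • c = c := by rw [inv_smul_eq_iff, hρc]
      rcases z2 (g y) with h2 | h2
      · rw [h2, zero_smul, add_zero]
      · rw [h2, one_smul, smul_add, h1, map_add, hgc, add_zero]
    rw [mul_smul, e1, e2, e3, hfv, add_smul, add_assoc, add_comm (g y • c)]
  have hs : ρ * t₁ * ρ⁻¹ * t₁⁻¹ ∈ D :=
    D.mul_mem (subset_closure (hconj t₁ ht₁T ρ)) (D.inv_mem (subset_closure ht₁T))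
  have hf0 : f ≠ 0 := by
    intro e
    have hyU : r * x * r⁻¹ * x⁻¹ ∈ zl S H := mul_mem (hm.norm r hrH x hx) (inv_mem hx)
    let X : EM hm := EM.mk hm x hx
    have e1 : ρ • X - X = EM.mk hm _ hyU := by
      rw [← EM.val_inj, EM.val_sub, EM.val_smul]
      show r * x * r⁻¹ * x = r * x * r⁻¹ * x⁻¹
      have : x⁻¹ = x := inv_eq_of_mul_eq_one_left (hm.sq x hx)
      rw [this]
    have h1 : g (ρ • X - X) = 1 := by
      rcases z2 (g (ρ • X - X)) with h2 | h2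
      · exfalso
        apply hmv
        have h3 := htg (ρ • X - X)
        rw [h2, zero_smul, add_zero, e1, ← EM.val_inj, EM.val_smul, EM.val_mk] at h3
        exact mul_inv_eq_iff_eq_mul.1 h3
      · exact h2
    have h3 := hfv (ρ • X)
    rw [inv_smul_smul, e, LinearMap.zero_apply] at h3
    rw [map_sub] at h1
    have h4 : g (ρ • X) = g X := by
      rcases z2 (g X) with h5 | h5 <;> rcases z2 (g (ρ • X)) with h6 | h6 <;> rw [h5, h6] at h3 ⊢
      · rw [zero_add] at h3; exact absurd h3 zero_ne_one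
      · rw [add_zero] at h3; exact absurd h3 zero_ne_one
    rw [h4, sub_self] at h1
    exact zero_ne_one h1
  -- LEMMA T
  obtain ⟨t, ⟨b, hb, a', ha', ha'V, et⟩, htf⟩ := lemT (T := T) (D := D) le_rfl subset_closure
    (fun t ht d _ => hconj t ht d)
    (fun t ht => by
      obtain ⟨g, hg, b, hb, -, e⟩ := ht
      obtain ⟨f, c, hc, -, hf⟩ := htv g hg b hb t e
      exact ⟨f, c, hc, hf⟩)
    (by
      intro W hDW k hk hkW hkM y
      -- the group of all such elements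
      let K₁ : Subgroup H :=
        { carrier := {k | k ∈ D ∧ (∀ w ∈ W, k • w = w) ∧ ∀ y : EM hm, k • y - y ∈ W}
          mul_mem' := by
            rintro k l ⟨hk1, hk2, hk3⟩ ⟨hl1, hl2, hl3⟩
            refine ⟨D.mul_mem hk1 hl1, fun w hw => by rw [mul_smul, hl2 w hw, hk2 w hw], fun y => ?_⟩
            have e : (k * l) • y - y = (k • (l • y) - l • y) + (l • y - y) := by rw [mul_smul]; abel
            rw [e]
            exact W.add_mem (hk3 _) (hl3 y)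
          one_mem' := ⟨D.one_mem, fun w _ => one_smul _ w, fun y => by rw [one_smul, sub_self]; exact W.zero_mem⟩
          inv_mem' := by
            rintro k ⟨hk1, hk2, hk3⟩
            refine ⟨D.inv_mem hk1, fun w hw => by rw [inv_smul_eq_iff, hk2 w hw], fun y => ?_⟩
            have h1 := hk3 (k⁻¹ • y)
            rw [smul_inv_smul] at h1
            have h2 := W.neg_mem h1
            rwa [neg_sub] at h2 }
      have hK : ∀ k : H, k ∈ K₁ ↔ k ∈ D ∧ (∀ w ∈ W, k • w = w) ∧ ∀ y : EM hm, k • y - y ∈ W := fun k => Iff.rfl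
      have h1 := cent_zl (S := S) (H := H) (D := D.map H.subtype) (K := K₁.map H.subtype) (U := zl S H) hS
        (map_subtype_le _) ?_ ?_ ?_ (fun g hg y hy => hm.norm g hg y hy) (zc_le_zl _ _) ?_
      · have h2 : (k : G) ∈ K₁.map H.subtype := ⟨k, ⟨hk, hkW, hkM⟩, rfl⟩
        have h3 := mem_centralizer_iff.1 (h1 h2) y.val y.val_mem
        rw [← EM.val_inj, EM.val_smul, ← h3]
        group
      · rintro g hg _ ⟨d, hd, rfl⟩
        exact ⟨⟨g, hg⟩ * d * ⟨g, hg⟩⁻¹, hDn d hd _, rfl⟩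
      · exact Subgroup.map_mono fun k hk => hk.1
      · rintro _ ⟨d, hd, rfl⟩ _ ⟨k, hk, rfl⟩
        refine ⟨d * k * d⁻¹, (hK _).2 ⟨hDn k hk.1 d, fun w hw => ?_, fun y => ?_⟩, rfl⟩
        · have h4 : d⁻¹ • w ∈ W := hDW _ (D.inv_mem hd) w hw
          rw [mul_smul, mul_smul, hk.2.1 _ h4, smul_inv_smul]
        · have h4 := hDW d hd _ (hk.2.2 (d⁻¹ • y))
          rw [smul_sub, smul_inv_smul] at h4
          rwa [mul_smul, mul_smul]
      · rintro _ ⟨k, hk, rfl⟩ y hy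
        have h4 : k • k • EM.mk hm y hy = EM.mk hm y hy := by
          have h5 := hk.2.2 (EM.mk hm y hy)
          have h6 := hk.2.1 _ h5
          rw [smul_sub] at h6
          have h7 : k • k • EM.mk hm y hy = k • EM.mk hm y hy + (k • EM.mk hm y hy - EM.mk hm y hy) := by
            rw [← h6]; abel
          rw [h7]
          have h8 : ∀ z w : EM hm, z + (z - w) = w := by
            intro z w
            have h9 : z + (z - w) = (z + z) - w := by abel
            rw [h9, self_add, zero_sub, neg_eq_iff_add_eq_zero, self_add]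
          exact h8 _ _
        rw [← mul_smul, ← EM.val_inj, EM.val_smul, EM.val_mk] at h4
        show (k : G) ^ 2 * y = y * (k : G) ^ 2
        rw [pow_two]
        exact mul_inv_eq_iff_eq_mul.1 h4)
    hs hf0 hc hsv
  -- `t` centralises `V`
  have hfV : ∀ y : EM hm, y.val ∈ zl S P → f y = 0 := by
    intro y hy
    rw [hfv, hρV' y hy]
    rcases z2 (g y) with h1 | h1 <;> rw [h1] <;> decide
  have htV : ∀ v ∈ zl S P, (t : G) * v = v * t := by
    intro v hv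
    have h1 := htf (EM.mk hm v (hVU hv))
    rw [hfV _ (by rw [EM.val_mk]; exact hv), zero_smul, add_zero, ← EM.val_inj, EM.val_smul, EM.val_mk] at h1
    exact mul_inv_eq_iff_eq_mul.1 h1
  -- the whole group `b A b⁻¹` centralises `V`
  have hBV : cj b A ≤ centralizer (zl S P : Set G) := by
    rintro _ ⟨a₂, ha₂, rfl⟩
    refine mem_centralizer_iff.2 fun v hv => ?_
    have hv' : b⁻¹ * v * b ∈ zj (o2 P) := by
      have h1 := zjH (P := P) hH (inv_mem hb) (h.V_zj hv)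
      rwa [inv_inv] at h1
    simp only [MulEquiv.coe_toMonoidHom, MulAut.conj_apply]
    by_cases hc₂ : a₂ ∈ centralizer (zl S P : Set G)
    · have h1 := h.centY ha₂ hc₂ hv'
      calc v * (b * a₂ * b⁻¹) = b * ((b⁻¹ * v * b) * a₂) * b⁻¹ := by group
        _ = b * (a₂ * (b⁻¹ * v * b)) * b⁻¹ := by rw [h1]
        _ = b * a₂ * b⁻¹ * v := by group
    · have h1 := h.centY (A.mul_mem ha' ha₂) (h.ind a' ha' a₂ ha₂ ha'V hc₂) hv'
      have h2 := htV v hv
      rw [et] at h2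
      have h3 : a' * (b⁻¹ * v * b) = (b⁻¹ * v * b) * a' := by
        calc a' * (b⁻¹ * v * b) = b⁻¹ * (b * a' * b⁻¹ * v) * b := by group
          _ = b⁻¹ * (v * (b * a' * b⁻¹)) * b := by rw [h2]
          _ = (b⁻¹ * v * b) * a' := by group
      have h4 : a₂ * (b⁻¹ * v * b) = (b⁻¹ * v * b) * a₂ := by
        have h5 : a' * (a₂ * (b⁻¹ * v * b)) = a' * ((b⁻¹ * v * b) * a₂) := by
          calc a' * (a₂ * (b⁻¹ * v * b)) = a' * a₂ * (b⁻¹ * v * b) := by group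
            _ = (b⁻¹ * v * b) * (a' * a₂) := h1
            _ = (b⁻¹ * v * b * a') * a₂ := by group
            _ = a' * (b⁻¹ * v * b) * a₂ := by rw [h3]
            _ = a' * ((b⁻¹ * v * b) * a₂) := by group
        exact mul_left_cancel h5
      calc v * (b * a₂ * b⁻¹) = b * ((b⁻¹ * v * b) * a₂) * b⁻¹ := by group
        _ = b * (a₂ * (b⁻¹ * v * b)) * b⁻¹ := by rw [h4]
        _ = b * a₂ * b⁻¹ * v := by group
  -- conjugate into `Q`
  obtain ⟨y, hyH, hyV, hyQ⟩ : ∃ y ∈ H, (∀ v ∈ zl S P, y * v = v * y) ∧ cj (y * b) A ≤ o2 P := by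
    set N : Subgroup G := H ⊓ normalizer (zl S P : Set G) with hN
    have hSN : Syl S N := by
      refine ⟨le_inf hS.1 (hSP.trans (MinSimple.VModule.le_normalizer_zl S P)), hS.2.1, fun R hR hR2 hSR => ?_⟩
      exact hS.2.2 R (hR.trans inf_le_left) hR2 hSR
    set C : Subgroup G := N ⊓ centralizer (zl S P : Set G) with hC
    have hCn : ∀ g ∈ N, ∀ n ∈ C, g * n * g⁻¹ ∈ C := by
      intro g hg n hn
      refine ⟨N.mul_mem (N.mul_mem hg hn.1) (N.inv_mem hg), mem_centralizer_iff.2 fun v hv => ?_⟩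
      have h1 : g⁻¹ * v * g ∈ zl S P := by
        have := (mem_normalizer_iff.1 (inv_mem hg.2) v).1 hv
        rwa [inv_inv] at this
      have h2 := mem_centralizer_iff.1 hn.2 _ h1
      calc v * (g * n * g⁻¹) = g * ((g⁻¹ * v * g) * n) * g⁻¹ := by group
        _ = g * (n * (g⁻¹ * v * g)) * g⁻¹ := by rw [h2]
        _ = g * n * g⁻¹ * v := by group
    have hSC := syl_inf hSN inf_le_left hCn
    have hBC : cj b A ≤ C := by
      have h1 : cj b A ≤ H := by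
        rintro _ ⟨a₂, ha₂, rfl⟩
        exact H.mul_mem (H.mul_mem hb (hPH (hAP ha₂))) (H.inv_mem hb)
      exact le_inf (le_inf h1 (hBV.trans (centralizer_le_normalizer _))) hBV
    obtain ⟨R, hR, hBR⟩ := exists_syl (isPGroup_cj b (h.two.to_le h.mem.2.1)) hBC
    obtain ⟨y, hy, e⟩ := syl_conj hR hSC
    refine ⟨y, hy.1.1, fun v hv => (mem_centralizer_iff.1 hy.2 v hv).symm, ?_⟩
    have h1 : cj y (cj b A) ≤ cj y R := cj_mono y hBR
    rw [cj_cj, e] at h1
    refine h1.trans ?_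
    rw [← h.cS]
    exact le_inf inf_le_left (inf_le_right.trans inf_le_right)
  have hyA : cj (y * b) A ∈ AA (o2 P) :=
    h.AA_of (isElementaryAbelian_cj _ h.mem.1) (by rw [card_cj]) hyQ
  -- so `t` is trivial
  apply hf0
  ext z
  rcases z2 (f z) with h1 | h1
  · rw [h1, LinearMap.zero_apply]
  exfalso
  have h2 := htf z
  have hz : y * z.val * y⁻¹ ∈ zj (o2 P) := zjH (P := P) hH hyH (zl_zj h hH z.val_mem)
  have h3 := (mem_zj.1 hz).2.2 ((y * b) * a' * (y * b)⁻¹) (le_jj hyA ⟨a', ha', rfl⟩)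
  have h4 : t • z = z := by
    rw [← EM.val_inj, EM.val_smul, et]
    have h5 : b * a' * b⁻¹ * z.val = z.val * (b * a' * b⁻¹) := by
      calc b * a' * b⁻¹ * z.val = y⁻¹ * ((y * b) * a' * (y * b)⁻¹ * (y * z.val * y⁻¹)) * y := by group
        _ = y⁻¹ * ((y * z.val * y⁻¹) * ((y * b) * a' * (y * b)⁻¹)) * y := by rw [h3]
        _ = z.val * (b * a' * b⁻¹) := by group
    rw [h5]; group
  rw [h4, h1, one_smul, eq_comm, add_eq_left] at h2
  exact hc h2

end main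

end Hyp

end Cfsg.Agent.Omega.OM.NJQ
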