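import Cfsg.Agent.Omega.OM.NJQ.LemT
import Cfsg.Agent.ZN.ChoiceSit

/-!
# An elementary abelian 2-subgroup `U` normalised by `H` as an `F₂`-module for `H`
-/

set_option autoImplicit false

namespace Cfsg.Agent.Omega.OM.NJQ

open Subgroup Cfsg

universe u

variable {G : Type u} [Group G]

/-- The data of the module. -/
structure ModD (H U : Subgroup G) : Prop where
  comm : ∀ x ∈ U, ∀ y ∈ U, x * y = y * x
  sq : ∀ x ∈ U, x * x = 1
  norm : ∀ h ∈ H, ∀ x ∈ U, h * x * h⁻¹ ∈ U

/-- `U` as an additive group. -/
def EM {H U : Subgroup G} (_ : ModD H U) : Type u := Additive U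

namespace EM

variable {H U : Subgroup G} (m : ModD H U)

instance : AddCommGroup (EM m) :=
  { (inferInstance : AddGroup (Additive U)) with
    add_comm := fun a b => Subtype.ext (m.comm _ (Subtype.prop (Additive.toMul a)) _ (Subtype.prop (Additive.toMul b))) }

/-- the underlying element -/
def val (x : EM m) : G := ((Additive.toMul (show Additive U from x) : U) : G)

/-- the vector of an element -/
def mk (x : G) (hx : x ∈ U) : EM m := (Additive.ofMul (⟨x, hx⟩ : U) : Additive U)

variable {m}

theorem val_mem (x : EM m) : x.val ∈ U := Subtype.prop _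

theorem val_mk {x : G} (hx : x ∈ U) : (mk m x hx).val = x := rfl

theorem mk_val (x : EM m) : mk m x.val x.val_mem = x := rfl

theorem val_inj {x y : EM m} : x.val = y.val ↔ x = y :=
  ⟨fun h => Subtype.ext h, fun h => by rw [h]⟩

theorem val_add (x y : EM m) : (x + y).val = x.val * y.val := rfl

theorem val_zero : (0 : EM m).val = 1 := rfl

theorem val_eq_one {x : EM m} : x.val = 1 ↔ x = 0 := by rw [← val_zero, val_inj]

instance : Module (ZMod 2) (EM m) :=
  AddCommGroup.zmodModule (n := 2) fun x => by
    rw [two_nsmul, ← val_inj, val_add, val_zero]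
    exact m.sq _ x.val_mem

instance : DistribMulAction H (EM m) where
  smul h x := mk m ((h : G) * x.val * (h : G)⁻¹) (m.norm h h.2 _ x.val_mem)
  one_smul x := by
    rw [← val_inj]
    show (1 : G) * x.val * (1 : G)⁻¹ = x.val
    group
  mul_smul a b x := by
    rw [← val_inj]
    show ((a : G) * b) * x.val * ((a : G) * b)⁻¹ = (a : G) * ((b : G) * x.val * (b : G)⁻¹) * (a : G)⁻¹
    group
  smul_zero a := by
    rw [← val_inj]
    show (a : G) * 1 * (a : G)⁻¹ = 1
    group
  smul_add a x y := by
    rw [← val_inj]
    show (a : G) * (x.val * y.val) * (a : G)⁻¹ = ((a : G) * x.val * (a : G)⁻¹) * ((a : G) * y.val * (a : G)⁻¹)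
    group

theorem val_smul (h : H) (x : EM m) : (h • x).val = (h : G) * x.val * (h : G)⁻¹ := rfl

theorem val_sub (x y : EM m) : (x - y).val = x.val * y.val := by
  have h1 : x - y = x + y := by
    rw [sub_eq_iff_eq_add, add_assoc, self_add, add_zero]
  rw [h1, val_add]

end EM

section tv

variable {M K : Type*} [AddCommGroup M] [Module (ZMod 2) M] [Group K] [DistribMulAction K M]

/-- An element with `[M, k] ≤ ⟨c⟩` acts as a transvection. -/
theorem exists_isTv {k : K} {c : M} (hc : c ≠ 0) (h : ∀ x : M, k • x = x ∨ k • x = x + c) :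
    ∃ g : M →ₗ[ZMod 2] ZMod 2, IsTv k g c := by
  classical
  have hne : ∀ x : M, x + c ≠ x := fun x e => hc (add_eq_left.1 e)
  let g0 : M → ZMod 2 := fun x => if k • x = x then 0 else 1
  have h0 : ∀ x, k • x = x + g0 x • c := by
    intro x
    by_cases hx : k • x = x
    · simp only [g0, if_pos hx, zero_smul, add_zero]; exact hx
    · simp only [g0, if_neg hx, one_smul]
      exact (h x).resolve_left hx
  have hinj : ∀ a b : ZMod 2, a • c = b • c → a = b := by
    intro a b hab
    rcases z2 a with rfl | rfl <;> rcases z2 b with rfl | rfl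
    · rfl
    · rw [zero_smul, one_smul] at hab; exact absurd hab.symm hc
    · rw [zero_smul, one_smul] at hab; exact absurd hab hc
    · rfl
  refine ⟨{ toFun := g0, map_add' := ?_, map_smul' := ?_ }, h0⟩
  · intro x y
    apply hinj
    have h1 := h0 (x + y)
    rw [smul_add, h0 x, h0 y] at h1
    have h2 : x + y + (g0 x • c + g0 y • c) = x + y + g0 (x + y) • c := by
      rw [← h1]; abel
    rw [← add_left_cancel h2, add_smul]
  · intro a x
    rcases z2 a with rfl | rfl
    · rw [zero_smul, RingHom.id_apply, zero_smul]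
      simp only [g0, smul_zero, if_true]
    · rw [one_smul, RingHom.id_apply, one_smul]

end tv

end Cfsg.Agent.Omega.OM.NJQ
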