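import Cfsg.Agent.Omega.OM.NJQ.Wcq
import Cfsg.Agent.Omega.OM.Line

/-!
# THEOREMS NJQ and WCQ for the FF line of NO-3S, `q = 2` (bb OMEGA #20560)

`S` a Sylow 2-subgroup of `G`, `NO3S.Hyp S P`, and the frame `Uni.Fr` over `B = bau S` with `q = 2`
(natural modules for `q = 2`, any `k ≥ 1`; symmetric modules).

* `norm_jj` : `N_G(J(O₂(P))) ≤ N_G(V_P)`;
* `eq_of_cent` : `J(O₂(P))` centralises `V^g` ⟹ `V^g = V`;
* `norm_le` : `N_G(T) ≤ N_G(J(O₂(P)))` for `J(O₂(P)) ≤ T ≤ S`; `wc` : `J(O₂(P))` is weakly closed in `S`.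
-/

set_option autoImplicit false

namespace Cfsg.Agent.Omega.OM.NJQ

open Subgroup Cfsg Cfsg.Agent.ZN.ChoiceBase Cfsg.Agent.ZN.ChoiceSit
open Cfsg.Agent.ZN (jj zj bau zc zl o2)
open Cfsg.Agent.PLocal.ElemAbSup Cfsg.Agent.PLocal.ThompsonJ
open Cfsg.Agent.Omega.SQ1.Bau (elem_comm elem_sq mem_sup_comm card_sup_comm zj_le_AA)
open Cfsg.Agent.Omega.OM.BlockUniq (elem_le_centralizer Mx)
open Cfsg.Agent.Omega.OM.Uni (Md FB Fr)
open scoped Pointwise

universe u

variable {G : Type u} [Group G] [Finite G]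

/-- One step: exchange of a block. -/
theorem md_step {B V Z : Subgroup G} {q m : ℕ} (h : Md B V Z q) (hm : Mx G m) {E : Subgroup G} (hE : E ≤ B)
    (hEe : IsElementaryAbelian 2 E) (hEm : Nat.card E = m) :
    IsElementaryAbelian 2 ((E ⊓ centralizer (V : Set G)) ⊔ V : Subgroup G) ∧
      Nat.card ↥((E ⊓ centralizer (V : Set G)) ⊔ V) = m := by
  have hcomm : ∀ f ∈ E ⊓ centralizer (V : Set G), ∀ u ∈ V, f * u = u * f := fun f hf u hu =>
    (mem_centralizer_iff.1 hf.2 u hu).symm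
  have hel : IsElementaryAbelian 2 ((E ⊓ centralizer (V : Set G)) ⊔ V : Subgroup G) :=
    isElementaryAbelian_sup (isElementaryAbelian_mono hEe inf_le_left) h.el (elem_le_centralizer hcomm)
  refine ⟨hel, le_antisymm (hm _ hel) ?_⟩
  rcases h.full hm hE hEe hEm with h1 | ⟨-, -, -, h1⟩
  · rw [← hEm]
    refine Subgroup.card_le_of_le (le_sup_of_le_left (le_inf le_rfl fun e he => ?_))
    exact mem_centralizer_iff.2 fun v hv => (h1 e he v hv).symm
  · have h2 := card_sup_comm hcomm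
    have h3 : Nat.card ↥((E ⊓ centralizer (V : Set G)) ⊓ V : Subgroup G) ≤
        Nat.card ↥(V ⊓ centralizer (E : Set G)) := by
      refine Subgroup.card_le_of_le fun u hu => ⟨hu.2, mem_centralizer_iff.2 fun x hx => ?_⟩
      exact elem_comm hEe x hx u hu.1.1
    have h4 : 0 < Nat.card ↥(V ⊓ centralizer (E : Set G)) := Nat.card_pos
    refine Nat.le_of_mul_le_mul_right ?_ h4
    calc m * Nat.card ↥(V ⊓ centralizer (E : Set G)) ≤ Nat.card V * Nat.card ↥(E ⊓ centralizer (V : Set G)) := by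
          rw [← hEm]; exact h1
      _ = Nat.card ↥((E ⊓ centralizer (V : Set G)) ⊔ V) *
          Nat.card ↥((E ⊓ centralizer (V : Set G)) ⊓ V : Subgroup G) := by rw [h2]; ring
      _ ≤ _ := Nat.mul_le_mul_left _ h3

/-- `(E ∩ C(V)) V` has maximal order for every elementary abelian `E ≤ B` of maximal order. -/
theorem fr_rep {ι : Type*} [Finite ι] {B Q V ZJ : Subgroup G} {L W Z C A : ι → Subgroup G} {q m : ℕ}
    (h : Fr B Q V ZJ L W Z C A q m) {E : Subgroup G} (hE : E ≤ B) (hEe : IsElementaryAbelian 2 E)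
    (hEm : Nat.card E = m) :
    IsElementaryAbelian 2 ((E ⊓ centralizer (V : Set G)) ⊔ V : Subgroup G) ∧
      Nat.card ↥((E ⊓ centralizer (V : Set G)) ⊔ V) = m := by
  classical
  have := Fintype.ofFinite ι
  have hVB : V ≤ B := h.VQ.trans h.QB
  have hel : ∀ X : Subgroup G, X ≤ V → IsElementaryAbelian 2 ((E ⊓ centralizer (X : Set G)) ⊔ X : Subgroup G) := by
    intro X hX
    exact isElementaryAbelian_sup (isElementaryAbelian_mono hEe inf_le_left) (isElementaryAbelian_mono h.el hX)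
      (elem_le_centralizer fun f hf u hu => (mem_centralizer_iff.1 hf.2 u hu).symm)
  have key : ∀ s : Finset ι, ∃ X ≤ V, (∀ i ∈ s, W i ≤ X) ∧
      Nat.card ↥((E ⊓ centralizer (X : Set G)) ⊔ X) = m := by
    intro s
    induction s using Finset.induction_on with
    | empty =>
      refine ⟨⊥, bot_le, by simp, ?_⟩
      have e : (E ⊓ centralizer ((⊥ : Subgroup G) : Set G)) ⊔ ⊥ = E := by
        rw [sup_bot_eq, inf_eq_left]
        intro x _
        refine mem_centralizer_iff.2 fun y hy => ?_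
        rw [SetLike.mem_coe, mem_bot] at hy
        rw [hy]; simp
      rw [e, hEm]
    | insert i s hi ih =>
      obtain ⟨X, hXV, hsX, hXm⟩ := ih
      refine ⟨X ⊔ W i, sup_le hXV (h.WV i), fun j hj => ?_, ?_⟩
      · rcases Finset.mem_insert.1 hj with rfl | hj
        · exact le_sup_right
        · exact (hsX j hj).trans le_sup_left
      refine le_antisymm (h.max _ (hel _ (sup_le hXV (h.WV i)))) ?_
      obtain ⟨-, h1⟩ := md_step (h.blk i).toMd h.max (E := (E ⊓ centralizer (X : Set G)) ⊔ X)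
        (sup_le (inf_le_left.trans hE) (hXV.trans hVB)) (hel X hXV) hXm
      rw [← h1]
      refine Subgroup.card_le_of_le (sup_le ?_ (le_sup_right.trans le_sup_right))
      rintro y ⟨hy, hyc⟩
      obtain ⟨f, hf, x, hx, rfl⟩ := mem_sup_comm (A := E ⊓ centralizer (X : Set G)) (B := X)
        (fun f hf u hu => (mem_centralizer_iff.1 hf.2 u hu).symm) hy
      refine mul_mem (mem_sup_left ⟨hf.1, mem_centralizer_iff.2 fun u hu => ?_⟩)
        (mem_sup_right (mem_sup_left hx))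
      have h2 : f ∈ centralizer ((X ⊔ W i : Subgroup G) : Set G) := by
        have h3 : X ⊔ W i ≤ centralizer ({f} : Set G) := by
          refine sup_le (fun u hu => ?_) fun u hu => ?_
          · refine mem_centralizer_iff.2 fun t ht => ?_
            rw [Set.mem_singleton_iff.1 ht]
            exact (mem_centralizer_iff.1 hf.2 u hu).symm
          · refine mem_centralizer_iff.2 fun t ht => ?_
            rw [Set.mem_singleton_iff.1 ht]
            have h4 : Commute (f * x) u := (mem_centralizer_iff.1 hyc u hu).symm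
            have h5 : Commute x u := h.Vc (hXV hx) (h.WV i hu)
            have h6 : f = f * x * x⁻¹ := by group
            rw [h6]
            exact (h4.mul_left h5.inv_left).eq
        exact mem_centralizer_iff.2 fun u hu => (mem_centralizer_iff.1 (h3 hu) f rfl).symm
      exact mem_centralizer_iff.1 h2 u hu
  obtain ⟨X, hXV, hX, hXm⟩ := key Finset.univ
  have e : X = V := by
    refine le_antisymm hXV ?_
    rw [h.V_eq]
    exact iSup_le fun i => hX i (Finset.mem_univ i)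
  subst e
  exact ⟨hel _ le_rfl, hXm⟩

omit [Finite G] in
theorem exists_two {Z : Subgroup G} (h : Nat.card Z = 2) : ∃ u ∈ Z, ∀ z ∈ Z, z = 1 ∨ z = u := by
  obtain ⟨⟨u, hu⟩, -, h1⟩ := (Nat.card_eq_two_iff' (1 : Z)).1 h
  refine ⟨u, hu, fun z hz => ?_⟩
  by_cases hz1 : z = 1
  · exact Or.inl hz1
  · exact Or.inr (congrArg Subtype.val (h1 ⟨z, hz⟩ fun e => hz1 (congrArg Subtype.val e)))

section

variable {ι : Type*} [Finite ι] {S : Sylow 2 G} {P ZJ : Subgroup G} {L W Z C A : ι → Subgroup G}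

omit [Finite ι] in
theorem fr_AA {q : ℕ}
    (hF : Fr (bau (S : Subgroup G)) (o2 P) (zl (S : Subgroup G) P) ZJ L W Z C A q (mm (S : Subgroup G))) (i : ι) :
    A i ∈ AA (S : Subgroup G) :=
  ⟨hF.Ael i, (hF.AB i).trans (bau_le _), fun B hB hBS => by rw [hF.Am i]; exact card_le_mm hB hBS⟩

/-- `Hyp` and `HypW` from the frame. -/
theorem HypW.of_fr (h : NO3S.Hyp S P)
    (hF : Fr (bau (S : Subgroup G)) (o2 P) (zl (S : Subgroup G) P) ZJ L W Z C A 2 (mm (S : Subgroup G))) (i : ι) :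
    ∃ u ∈ Z i, HypW S P (A i) u := by
  have hA : A i ∈ AA (S : Subgroup G) := fr_AA hF i
  have hcard : ∀ j, Nat.card (Z j) = 2 := hF.cardZ
  obtain ⟨u, hu, hZ⟩ := exists_two (hcard i)
  have hBS : ∀ E ∈ AA (S : Subgroup G), E ≤ bau (S : Subgroup G) := fun E hE =>
    (le_jj hE).trans (jj_le_bau _)
  have hrep : ∀ E ∈ AA (S : Subgroup G), (E ⊓ centralizer (zl (S : Subgroup G) P : Set G)) ⊔
      zl (S : Subgroup G) P ∈ AA (S : Subgroup G) := by
    intro E hE
    obtain ⟨h1, h2⟩ := fr_rep hF (hBS E hE) hE.1 (mm_eq hE).symm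
    refine ⟨h1, sup_le (inf_le_left.trans hE.2.1) ((hF.VQ.trans hF.QB).trans (bau_le _)), fun B hB hBS => ?_⟩
    rw [h2]
    exact card_le_mm hB hBS
  -- the action of `A i`
  have hfree : ∀ a ∈ A i, ∀ v ∈ W i, v ∉ Z i → a * v = v * a → a ∈ centralizer (zl (S : Subgroup G) P : Set G) := by
    intro a ha v hv hvZ hc
    refine mem_centralizer_iff.2 fun y hy => ?_
    obtain ⟨w, hw, c, hc', rfl⟩ := hF.WC i y hy
    have h1 : Commute a w := (hF.blk i).free a (hF.AB i ha) v hv hvZ hc w hw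
    have h2 : Commute a c := hF.AC i a ha c hc'
    exact (h1.mul_right h2).eq.symm
  obtain ⟨v, hv, hvZ⟩ : ∃ v ∈ W i, v ∉ Z i := by
    by_contra hcon
    push Not at hcon
    exact hF.Ane i fun a ha v hv => (hF.blk i).cZ a (hF.AB i ha) v (hcon v hv)
  have htr : ∀ a ∈ A i, ∀ v ∈ zl (S : Subgroup G) P, a * v * a⁻¹ = v ∨ a * v * a⁻¹ = v * u := by
    intro a ha v hv
    rcases hZ _ (hF.A_comm ha hv) with h1 | h1
    · left
      exact mul_inv_eq_one.1 h1
    · right
      rw [mul_inv_eq_iff_eq_mul.1 h1]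
      exact hF.Vc (hF.ZV i hu) hv
  refine ⟨u, hu, ?_⟩
  refine
    { par := h.star.toIsMinPar
      two := S.isPGroup'
      odd := MinSimple.Basic.not_dvd_relIndex S h.star.le
      self := h.star.isLoc.char2 S h.ctx.char2
      cS := h.inf_centralizer
      zQ := hF.zcQ
      cZ := ?_
      mem := hA
      rep := hrep _ hA
      uV := hF.ZV i hu
      tr := htr
      mv := ?_
      ind := ?_
      repAll := hrep
      pcs := ?_
      noff := ?_ }
  · intro z hz hc
    rw [← mem_bot (G := G), ← h.inf_eq_bot]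
    exact ⟨hz, mem_centralizer_iff.2 hc⟩
  · by_contra hcon
    push Not at hcon
    exact hF.Ane i fun a ha v hv => hcon a ha v (hF.WV i hv)
  · intro a ha b hb haV hbV
    refine hfree _ (mul_mem ha hb) v hv hvZ ?_
    have h1 := (htr a ha v (hF.WV i hv)).resolve_left fun h1 => haV (hfree a ha v hv hvZ
      (mul_inv_eq_iff_eq_mul.1 h1))
    have h2 := (htr b hb v (hF.WV i hv)).resolve_left fun h1 => hbV (hfree b hb v hv hvZ
      (mul_inv_eq_iff_eq_mul.1 h1))
    have h3 : a * u = u * a := (hF.blk i).cZ a (hF.AB i ha) u hu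
    have h4 : u * u = 1 := by
      have := elem_sq hF.el u (hF.ZV i hu)
      rwa [pow_two] at this
    refine mul_inv_eq_iff_eq_mul.1 ?_
    calc a * b * v * (a * b)⁻¹ = a * (b * v * b⁻¹) * a⁻¹ := by group
      _ = a * v * a⁻¹ * (a * u) * a⁻¹ := by rw [h2]; group
      _ = a * v * a⁻¹ * (u * a) * a⁻¹ := by rw [h3]
      _ = v * (u * u) := by rw [h1]; group
      _ = v := by rw [h4, mul_one]
  · conv_lhs => rw [hF.V_eq]
    refine iSup_le fun j w hw => subset_closure ⟨hF.WV j hw, ?_⟩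
    obtain ⟨x, hx, hxZ⟩ := exists_two (hcard j)
    refine ⟨x, fun b hb => ⟨?_, (hF.blk j).cZ b (jj_le_bau _ hb) x hx⟩⟩
    rcases hxZ _ ((hF.blk j).com b (jj_le_bau _ hb) w hw) with h1 | h1
    · left
      exact mul_inv_eq_one.1 h1
    · right
      rw [mul_inv_eq_iff_eq_mul.1 h1]
      exact hF.Vc (hF.ZV j hx) (hF.WV j hw)
  · intro g h1 h2 x hx y hy
    have h3 := h.geo.noff P rfl P rfl g h1 h2
    exact (mem_centralizer_iff.1 (h3 hx) y hy).symm

end

/-! ### Consequences of `HypW` -/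

namespace HypW

variable {S : Sylow 2 G} {P A : Subgroup G} {u : G}

/-- a 2-subgroup `T ≥ J(O₂(P))` of `G`: `N_G(T) ≤ N_G(J(O₂(P)))` -/
theorem norm_two (h : HypW S P A u) {T : Subgroup G} (hT : IsPGroup 2 T) (hJT : jj (o2 P) ≤ T) :
    normalizer (T : Set G) ≤ normalizer (jj (o2 P) : Set G) := by
  intro g hg
  have hgT : cj g T = T := cj_eq_of_mem_normalizer hg
  obtain ⟨S', hS'⟩ := hT.exists_le_sylow
  obtain ⟨x, hx⟩ := MulAction.exists_smul_eq G S S'
  have hx2 : (S' : Subgroup G) = cj x (S : Subgroup G) := by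
    rw [← hx, Sylow.coe_subgroup_smul]
    rfl
  have hTx : T ≤ cj x (S : Subgroup G) := hS'.trans hx2.le
  have h1 : cj x⁻¹ (jj (o2 P)) = jj (o2 P) := h.wc.eq _ (by
    have := cj_mono x⁻¹ (hJT.trans hTx)
    rwa [cj_inv_cj] at this)
  have h2 : cj (x⁻¹ * g) (jj (o2 P)) = jj (o2 P) := h.wc.eq _ (by
    have h3 : cj g (jj (o2 P)) ≤ T := (cj_mono g hJT).trans hgT.le
    have := cj_mono x⁻¹ (h3.trans hTx)
    rwa [cj_inv_cj, cj_cj] at this)
  rw [mem_normalizer_iff_cj]
  have h3 : cj x (jj (o2 P)) = jj (o2 P) := by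
    have := congrArg (cj x) h1
    rw [cj_cj_inv] at this
    exact this.symm
  have h4 := congrArg (cj x) h2
  rwa [cj_cj, mul_inv_cancel_left, h3] at h4

/-- a 2-subgroup `T ≥ J(O₂(P))` of `G`: `N_G(T) ≤ N_G(V_P)` -/
theorem norm_two_V (h : HypW S P A u) {T : Subgroup G} (hT : IsPGroup 2 T) (hJT : jj (o2 P) ≤ T) :
    normalizer (T : Set G) ≤ normalizer (zl (S : Subgroup G) P : Set G) :=
  (h.norm_two hT hJT).trans h.toHyp.norm_jj

/-- `J(O₂(P)) ≤ N_G(V)^g` ⟹ `V^g = V` -/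
theorem eq_of_le (h : HypW S P A u) {g : G}
    (hg : jj (o2 P) ≤ cj g (normalizer (zl (S : Subgroup G) P : Set G))) :
    cj g (zl (S : Subgroup G) P) = zl (S : Subgroup G) P := by
  set M := normalizer (zl (S : Subgroup G) P : Set G) with hM
  have hSM : (S : Subgroup G) ≤ M := h.par.le.trans (MinSimple.VModule.le_normalizer_zl _ P)
  have hS : Syl (S : Subgroup G) M := syl_of_le S hSM
  have hJ2 : IsPGroup 2 (jj (o2 P)) := (S.isPGroup'.to_le h.QS).to_le (jj_le _)
  have h1 : cj g⁻¹ (jj (o2 P)) ≤ M := by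
    have := cj_mono g⁻¹ hg
    rwa [cj_inv_cj] at this
  obtain ⟨R, hR, hBR⟩ := exists_syl (isPGroup_cj g⁻¹ hJ2) h1
  obtain ⟨m, hm, e⟩ := syl_conj hR hS
  have h2 : cj (m * g⁻¹) (jj (o2 P)) ≤ (S : Subgroup G) := by
    rw [← cj_cj]
    exact (cj_mono m hBR).trans e.le
  have h3 := h.toHyp.norm_jj (mem_normalizer_iff_cj.2 (h.wc.eq _ h2))
  have h4 : g⁻¹ ∈ M := by
    have := mul_mem (inv_mem hm) h3
    rwa [inv_mul_cancel_left] at this
  have h5 : g ∈ M := by
    have := inv_mem h4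
    rwa [inv_inv] at this
  exact cj_eq_of_mem_normalizer h5

theorem le_jjS (h : HypW S P A u) : jj (o2 P) ≤ jj (S : Subgroup G) := by
  rw [jj_eq]
  refine sSup_le fun E hE => le_jj ⟨hE.1, hE.2.1.trans h.QS, fun B hB hBS => ?_⟩
  rw [h.card_Q hE]
  exact h.mem.2.2 B hB hBS

/-- `N_G(J(S)) ≤ N_G(V)` -/
theorem norm_jjS (h : HypW S P A u) :
    normalizer (jj (S : Subgroup G) : Set G) ≤ normalizer (zl (S : Subgroup G) P : Set G) :=
  h.norm_two_V (S.isPGroup'.to_le (jj_le _)) h.le_jjS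

/-- `N_G(B) ≤ N_G(V)` for `B = C_S(Ω₁Z(J(S)))` -/
theorem norm_bau (h : HypW S P A u) :
    normalizer (bau (S : Subgroup G) : Set G) ≤ normalizer (zl (S : Subgroup G) P : Set G) :=
  h.norm_two_V (S.isPGroup'.to_le (bau_le _)) (h.le_jjS.trans (jj_le_bau _))

/-- `N_G(O₂(P)) ≤ N_G(V)` -/
theorem norm_o2 (h : Hyp (S : Subgroup G) P A u) :
    normalizer (o2 P : Set G) ≤ normalizer (zl (S : Subgroup G) P : Set G) :=
  (normalizer_le_jj (o2 P)).trans h.norm_jj

/-- `J(O₂(P)) ≤ O₂(X)` ⟹ `X ≤ N_G(V)` -/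
theorem le_of_le_o2 (h : HypW S P A u) {X : Subgroup G} (hX : jj (o2 P) ≤ o2 X) :
    X ≤ normalizer (zl (S : Subgroup G) P : Set G) :=
  (MinSimple.VModule.le_normalizer_o2 X).trans (h.norm_two_V (MinSimple.VModule.o2_isPGroup X) hX)

end HypW

/-! ### The instances -/

/-- several blocks, `q = 2` -/
theorem HypW.of_line {ι : Type} [Finite ι] {S : Sylow 2 G} {P : Subgroup G} {L W Z C A : ι → Subgroup G}
    (h : Line S P L W Z C A 2) (i : ι) : ∃ u ∈ Z i, HypW S P (A i) u :=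
  HypW.of_fr h.hyp.toHyp h.fr i

/-- natural modules, `k ≥ 1`, `|F| = 2` -/
theorem HypW.exists_nat {S : Sylow 2 G} {P : Subgroup G} (h : NO3S.HypJ S P) {F : Type} [Field F] [Finite F]
    [CharP F 2] (hF : Nat.card F = 2) {k : ℕ} (hk : 0 < k)
    (N : FFThm.NatK F (S : Subgroup G) P (zl (S : Subgroup G) P) (FrameFF.cv (S : Subgroup G) P) k) :
    ∃ A u, HypW S P A u := by
  obtain ⟨L, Z, A, -, -, -, -, h1⟩ := Uni.natFr h.toHyp.syl h.star.toIsMinPar
    (h.star.isLoc.char2 S h.ctx.char2) h.jnot hk N h.toHyp.cv (Uni.mx_sylow S)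
  rw [hF] at h1
  obtain ⟨u, -, h2⟩ := HypW.of_fr h.toHyp h1 ⟨0, hk⟩
  exact ⟨_, u, h2⟩

/-- symmetric modules, `m ≥ 2` -/
theorem HypW.exists_sym {S : Sylow 2 G} {P : Subgroup G} (h : NO3S.HypJ S P) {k m : ℕ} (hk : 0 < k) (hm : 2 ≤ m)
    (N : FFThm.SymK (S : Subgroup G) P (zl (S : Subgroup G) P) (FrameFF.cv (S : Subgroup G) P) k m) :
    ∃ A u, HypW S P A u := by
  obtain ⟨ι, hfin, W, d, t, r, L, A, -, -, -, -, h1⟩ := Line.exists_sym h hk hm N
  by_cases hι : Nonempty ι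
  · obtain ⟨i⟩ := hι
    obtain ⟨u, -, h2⟩ := HypW.of_line h1 i
    exact ⟨_, u, h2⟩
  · exfalso
    rw [not_nonempty_iff] at hι
    have h2 := h1.fr.V_eq
    rw [iSup_of_empty] at h2
    have h3 := Line.card_sym hk N
    rw [h2, Subgroup.card_bot] at h3
    have : 2 ^ 2 ≤ 2 ^ m := Nat.pow_le_pow_right (by norm_num) hm
    omega

end Cfsg.Agent.Omega.OM.NJQ
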