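import Cfsg.Agent.Omega.OM.NJQ.Glob
import Cfsg.Agent.Omega.OM.UOne
import Cfsg.Agent.Omega.OM.Lev.Wc

/-!
# THEOREM WCQ (helper211 #19706, in the form of bb OMEGA #20560 (B)), `q = 2`

`J(O₂(P))` is weakly closed in `S` with respect to `G`.
-/

set_option autoImplicit false

namespace Cfsg.Agent.Omega.OM.NJQ

open Subgroup Cfsg Cfsg.Agent.ZN.ChoiceBase Cfsg.Agent.ZN.ChoiceSit
open Cfsg.Agent.ZN (jj zj bau zc zl o2)
open Cfsg.Agent.PLocal.ElemAbSup Cfsg.Agent.PLocal.ThompsonJ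
open Cfsg.Agent.Omega.SQ1.Bau (elem_comm elem_sq mem_sup_comm card_sup_comm zj_le_AA)
open Cfsg.Agent.Omega.OM.BlockUniq (elem_le_centralizer)

universe u

variable {G : Type u} [Group G] [Finite G]

/-! ### Small lemmas -/

theorem mem_or {K E : Subgroup G} (hKE : K ≤ E) (hc : Nat.card E ≤ 2 * Nat.card K) {v : G} (hv : v ∈ E)
    (hvK : v ∉ K) {y : G} (hy : y ∈ E) : y ∈ K ∨ y * v ∈ K := by
  have h1 : Nat.card K * K.relIndex E = Nat.card E := by
    rw [← Nat.card_congr (Subgroup.subgroupOfEquivOfLe hKE).toEquiv, relIndex, Subgroup.card_mul_index]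
  have h2 : K.relIndex E ≠ 1 := fun h => hvK (Subgroup.relIndex_eq_one.1 h hv)
  have h3 : 0 < Nat.card K := Nat.card_pos
  have h4 : K.relIndex E = 2 := by
    have h5 : K.relIndex E ≤ 2 := by
      by_contra hlt
      push Not at hlt
      have : Nat.card K * 3 ≤ Nat.card K * K.relIndex E := Nat.mul_le_mul_left _ hlt
      omega
    have h6 : K.relIndex E ≠ 0 := by
      intro h
      rw [h, mul_zero] at h1
      have : 0 < Nat.card E := Nat.card_pos
      omega
    omega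
  have h5 := (Subgroup.mul_mem_iff_of_index_two (H := K.subgroupOf E) h4 (a := ⟨y, hy⟩) (b := ⟨v, hv⟩))
  simp only [mem_subgroupOf, Subgroup.coe_mul] at h5
  by_cases hyK : y ∈ K
  · exact Or.inl hyK
  · exact Or.inr (h5.2 ⟨fun h => absurd h hyK, fun h => absurd h hvK⟩)

/-- Case (3): `A₀ = C_A(V)` centralises `w`. -/
theorem caseA {A V : Subgroup G} (hA : IsElementaryAbelian 2 A) (hV : IsElementaryAbelian 2 V)
    (hmax : ∀ E : Subgroup G, IsElementaryAbelian 2 E → Nat.card E ≤ Nat.card A)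
    (hind : Nat.card A ≤ 2 * Nat.card ↥(A ⊓ centralizer (V : Set G))) {a : G} (ha : a ∈ A) {v₀ : G} (hv₀ : v₀ ∈ V)
    (hmv : a * v₀ ≠ v₀ * a) {u : G} (hu : ∀ v ∈ V, a * v * a⁻¹ = v ∨ a * v * a⁻¹ = v * u) (huV : u ∈ V)
    {w : G} (hw2 : w ^ 2 = 1) (hwV : ∀ v ∈ V, w * v = v * w)
    (hwA : ∀ b ∈ A ⊓ centralizer (V : Set G), b * w = w * b) : a * w * a⁻¹ = w ∨ a * w * a⁻¹ = w * u := by
  set A₀ := A ⊓ centralizer (V : Set G) with hA₀
  have h1 : IsElementaryAbelian 2 (zpowers w ⊔ V : Subgroup G) := by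
    refine isElementaryAbelian_sup (isElementaryAbelian_zpowers hw2) hV (elem_le_centralizer ?_)
    intro x hx v hv
    obtain ⟨k, rfl⟩ := mem_zpowers_iff.1 hx
    exact (Commute.zpow_left (hwV v hv) k).eq
  have hc : ∀ x ∈ A₀, ∀ y ∈ zpowers w ⊔ V, x * y = y * x := by
    intro x hx y hy
    have h2 : zpowers w ⊔ V ≤ centralizer ({x} : Set G) := by
      refine sup_le (zpowers_le.2 (mem_centralizer_iff.2 fun z hz => ?_)) fun v hv =>
        mem_centralizer_iff.2 fun z hz => ?_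
      · rw [Set.mem_singleton_iff.1 hz]; exact hwA x hx
      · rw [Set.mem_singleton_iff.1 hz]; exact (mem_centralizer_iff.1 hx.2 v hv).symm
    exact mem_centralizer_iff.1 (h2 hy) x rfl
  have h2 : IsElementaryAbelian 2 (A₀ ⊔ (zpowers w ⊔ V) : Subgroup G) :=
    isElementaryAbelian_sup (isElementaryAbelian_mono hA inf_le_left) h1 (elem_le_centralizer hc)
  have h3 := (hmax _ h2).trans hind
  have hv₀A : v₀ ∉ A₀ := fun h => hmv (elem_comm hA a ha v₀ h.1)
  have hw : w ∈ A₀ ⊔ (zpowers w ⊔ V) := mem_sup_right (mem_sup_left (mem_zpowers w))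
  rcases mem_or le_sup_left h3 (mem_sup_right (mem_sup_right hv₀)) hv₀A hw with h4 | h4
  · left
    rw [elem_comm hA a ha w h4.1]; group
  · right
    have h5 := elem_comm hA a ha _ h4.1
    rcases hu v₀ hv₀ with h6 | h6
    · exact absurd (mul_inv_eq_iff_eq_mul.1 h6) hmv
    have h7 : (a * w * a⁻¹) * (v₀ * u) = w * v₀ := by
      calc (a * w * a⁻¹) * (v₀ * u) = (a * w * a⁻¹) * (a * v₀ * a⁻¹) := by rw [h6]
        _ = a * (w * v₀) * a⁻¹ := by group
        _ = w * v₀ := by rw [h5]; group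
    have h8 : u⁻¹ = u := inv_eq_of_mul_eq_one_left (by
      have := elem_sq hV u huV
      rwa [pow_two] at this)
    have h9 : v₀ * u = u * v₀ := elem_comm hV v₀ hv₀ u huV
    rw [h9, ← mul_assoc] at h7
    have h10 := mul_right_cancel h7
    calc a * w * a⁻¹ = (a * w * a⁻¹ * u) * u⁻¹ := by group
      _ = w * u := by rw [h10, h8]

/-- Case (4): some `e₀ ∈ A₀` moves `w`. -/
theorem caseB {A V : Subgroup G} (hA : IsElementaryAbelian 2 A) (hV : IsElementaryAbelian 2 V)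
    (hmax : ∀ E : Subgroup G, IsElementaryAbelian 2 E →
      Nat.card E ≤ Nat.card ↥((A ⊓ centralizer (V : Set G)) ⊔ V : Subgroup G))
    {a : G} (ha : a ∈ A) (haV : ∀ v ∈ V, a * v * a⁻¹ ∈ V)
    {w x : G} (hw2 : w ^ 2 = 1) (hwV : ∀ v ∈ V, w * v = v * w) (hww : w * (a * w * a⁻¹) = (a * w * a⁻¹) * w)
    (hx : ∀ b ∈ A ⊓ centralizer (V : Set G), b * w * b⁻¹ = w ∨ b * w * b⁻¹ = w * x) (hx2 : x * x = 1)
    {e₀ : G} (he₀ : e₀ ∈ A ⊓ centralizer (V : Set G)) (hmv : e₀ * w ≠ w * e₀) : a * x * a⁻¹ = x := by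
  set A₀ := A ⊓ centralizer (V : Set G) with hA₀
  set w' := a * w * a⁻¹ with hw'
  set A₁ := A₀ ⊓ centralizer ({w} : Set G) with hA₁
  have hA₁m : ∀ b, b ∈ A₁ ↔ b ∈ A₀ ∧ b * w = w * b := by
    intro b
    rw [hA₁, mem_inf, mem_centralizer_iff]
    exact ⟨fun h => ⟨h.1, (h.2 w rfl).symm⟩, fun h => ⟨h.1, fun z hz => by
      rw [Set.mem_singleton_iff.1 hz]; exact h.2.symm⟩⟩
  have he₀w : e₀ * w * e₀⁻¹ = w * x := (hx e₀ he₀).resolve_left fun h => hmv (mul_inv_eq_iff_eq_mul.1 h)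
  have haA₀ : ∀ b ∈ A₀, a⁻¹ * b * a = b := by
    intro b hb
    have h1 := elem_comm hA a ha b hb.1
    calc a⁻¹ * b * a = a⁻¹ * (b * a) := by group
      _ = a⁻¹ * (a * b) := by rw [h1]
      _ = b := by group
  have hconj : ∀ b ∈ A₀, b * w' * b⁻¹ = a * (b * w * b⁻¹) * a⁻¹ := by
    intro b hb
    have h1 := haA₀ b hb
    have h2 : b * a = a * b := (elem_comm hA a ha b hb.1).symm
    have h3 : a⁻¹ * b⁻¹ = b⁻¹ * a⁻¹ := by rw [← mul_inv_rev, ← mul_inv_rev, h2]
    calc b * w' * b⁻¹ = (b * a) * w * (a⁻¹ * b⁻¹) := by rw [hw']; group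
      _ = (a * b) * w * (b⁻¹ * a⁻¹) := by rw [h2, h3]
      _ = a * (b * w * b⁻¹) * a⁻¹ := by group
  have he₀w' : e₀ * w' * e₀⁻¹ = w' * (a * x * a⁻¹) := by
    rw [hconj e₀ he₀, he₀w, hw']; group
  -- commutation
  have hAV : ∀ b ∈ A₀, ∀ v ∈ V, b * v = v * b := fun b hb v hv => (mem_centralizer_iff.1 hb.2 v hv).symm
  have hw'V : ∀ v ∈ V, w' * v = v * w' := by
    intro v hv
    have h1 : a⁻¹ * v * a ∈ V := by
      have h2 : a⁻¹ = a := inv_eq_of_mul_eq_one_left (by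
        have := elem_sq hA a ha
        rwa [pow_two] at this)
      have := haV v hv
      rwa [h2] at this ⊢
    have h2 := hwV _ h1
    calc w' * v = a * (w * (a⁻¹ * v * a)) * a⁻¹ := by rw [hw']; group
      _ = a * ((a⁻¹ * v * a) * w) * a⁻¹ := by rw [h2]
      _ = v * w' := by rw [hw']; group
  have hw'2 : w' ^ 2 = 1 := by
    rw [pow_two] at hw2 ⊢
    calc w' * w' = a * (w * w) * a⁻¹ := by rw [hw']; group
      _ = 1 := by rw [hw2]; group
  have hVA₁ : A₁ ⊔ V ≤ A₀ ⊔ V := sup_le_sup_right inf_le_left V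
  have hE₁el : IsElementaryAbelian 2 (A₁ ⊔ V : Subgroup G) :=
    isElementaryAbelian_sup (isElementaryAbelian_mono hA (inf_le_left.trans inf_le_left)) hV
      (elem_le_centralizer fun b hb v hv => hAV b hb.1 v hv)
  have hmemc : ∀ y : G, (∀ b ∈ A₁, b * y = y * b) → (∀ v ∈ V, v * y = y * v) → ∀ z ∈ A₁ ⊔ V, z * y = y * z := by
    intro y h1 h2 z hz
    have h3 : A₁ ⊔ V ≤ centralizer ({y} : Set G) := by
      refine sup_le (fun b hb => ?_) fun v hv => ?_
      · refine mem_centralizer_iff.2 fun t ht => ?_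
        rw [Set.mem_singleton_iff.1 ht]; exact (h1 b hb).symm
      · refine mem_centralizer_iff.2 fun t ht => ?_
        rw [Set.mem_singleton_iff.1 ht]; exact (h2 v hv).symm
    exact (mem_centralizer_iff.1 (h3 hz) y rfl).symm
  have hbw : ∀ b ∈ A₁, b * w = w * b := fun b hb => ((hA₁m b).1 hb).2
  have hbw' : ∀ b ∈ A₁, b * w' = w' * b := by
    intro b hb
    have h1 := hconj b hb.1
    have h2 : b * w * b⁻¹ = w := by rw [hbw b hb]; group
    rw [h2] at h1
    exact mul_inv_eq_iff_eq_mul.1 h1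
  -- the big group
  have hF₁ : IsElementaryAbelian 2 ((A₁ ⊔ V) ⊔ zpowers w : Subgroup G) := by
    refine isElementaryAbelian_sup hE₁el (isElementaryAbelian_zpowers hw2) (elem_le_centralizer ?_)
    intro z hz y hy
    obtain ⟨k, rfl⟩ := mem_zpowers_iff.1 hy
    exact (Commute.zpow_right (hmemc w hbw (fun v hv => (hwV v hv).symm) z hz) k).eq
  have hF : IsElementaryAbelian 2 (((A₁ ⊔ V) ⊔ zpowers w) ⊔ zpowers w' : Subgroup G) := by
    refine isElementaryAbelian_sup hF₁ (isElementaryAbelian_zpowers hw'2) (elem_le_centralizer ?_)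
    intro z hz y hy
    obtain ⟨k, rfl⟩ := mem_zpowers_iff.1 hy
    refine (Commute.zpow_right ?_ k).eq
    have h1 : (A₁ ⊔ V) ⊔ zpowers w ≤ centralizer ({w'} : Set G) := by
      refine sup_le (fun t ht => ?_) (zpowers_le.2 ?_)
      · refine mem_centralizer_iff.2 fun s hs => ?_
        rw [Set.mem_singleton_iff.1 hs]
        exact (hmemc w' hbw' (fun v hv => (hw'V v hv).symm) t ht).symm
      · refine mem_centralizer_iff.2 fun s hs => ?_
        rw [Set.mem_singleton_iff.1 hs]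
        exact hww.symm
    exact (mem_centralizer_iff.1 (h1 hz) w' rfl).symm
  -- `|A₀ V| = 2 |A₁ V|`
  have hcard : Nat.card ↥(A₀ ⊔ V) ≤ 2 * Nat.card ↥(A₁ ⊔ V) := by
    have h1 := card_sup_comm (A := A₀) (B := V) hAV
    have h2 := card_sup_comm (A := A₁) (B := V) fun b hb v hv => hAV b hb.1 v hv
    have h3 : A₀ ⊓ V = A₁ ⊓ V := by
      refine le_antisymm (fun z hz => ?_) (inf_le_inf_right _ inf_le_left)
      exact ⟨(hA₁m z).2 ⟨hz.1, (hwV z hz.2).symm⟩, hz.2⟩
    have h4 : Nat.card A₀ ≤ 2 * Nat.card A₁ := by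
      have h5 : A₁.relIndex A₀ ≤ 2 := by
        have h6 : ∀ b : A₀, ∀ c : A₀, b ∉ A₁.subgroupOf A₀ → c ∉ A₁.subgroupOf A₀ → b⁻¹ * c ∈ A₁.subgroupOf A₀ := by
          rintro ⟨b, hb⟩ ⟨c, hc⟩ hb1 hc1
          rw [mem_subgroupOf] at hb1 hc1 ⊢
          have hbne : b * w * b⁻¹ = w * x := (hx b hb).resolve_left fun h => hb1 ((hA₁m b).2
            ⟨hb, mul_inv_eq_iff_eq_mul.1 h⟩)
          have hcne : c * w * c⁻¹ = w * x := (hx c hc).resolve_left fun h => hc1 ((hA₁m c).2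
            ⟨hc, mul_inv_eq_iff_eq_mul.1 h⟩)
          refine (hA₁m _).2 ⟨A₀.mul_mem (A₀.inv_mem hb) hc, ?_⟩
          have h7 : c * w * c⁻¹ = b * w * b⁻¹ := by rw [hbne, hcne]
          calc b⁻¹ * c * w = b⁻¹ * (c * w * c⁻¹) * c := by group
            _ = b⁻¹ * (b * w * b⁻¹) * c := by rw [h7]
            _ = w * (b⁻¹ * c) := by group
        by_contra hlt
        push Not at hlt
        obtain ⟨b, hb⟩ : ∃ b : A₀, b ∉ A₁.subgroupOf A₀ := by
          by_contra hcon
          push Not at hcon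
          have h8 : A₁.relIndex A₀ = 1 := by
            rw [Subgroup.relIndex_eq_one]
            intro z hz
            exact mem_subgroupOf.1 (hcon ⟨z, hz⟩)
          omega
        have h9 : (A₁.subgroupOf A₀).index = 2 := by
          rw [Subgroup.index_eq_two_iff]
          refine ⟨b, fun c => ?_⟩
          by_cases hc : c ∈ A₁.subgroupOf A₀
          · refine Or.inr ⟨hc, fun h10 => hb ?_⟩
            have := (A₁.subgroupOf A₀).mul_mem ((A₁.subgroupOf A₀).inv_mem hc) h10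
            rwa [inv_mul_cancel_left] at this
          · refine Or.inl ⟨?_, hc⟩
            have h10 : c⁻¹ ∉ A₁.subgroupOf A₀ := fun h => hc (by
              have := (A₁.subgroupOf A₀).inv_mem h
              rwa [inv_inv] at this)
            have := h6 c⁻¹ b h10 hb
            rwa [inv_inv] at this
        rw [Subgroup.relIndex] at hlt
        omega
      have h6 : Nat.card A₁ * A₁.relIndex A₀ = Nat.card A₀ := by
        rw [← Nat.card_congr (Subgroup.subgroupOfEquivOfLe (show A₁ ≤ A₀ from inf_le_left)).toEquiv, relIndex,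
          Subgroup.card_mul_index]
      calc Nat.card A₀ = Nat.card A₁ * A₁.relIndex A₀ := h6.symm
        _ ≤ Nat.card A₁ * 2 := Nat.mul_le_mul_left _ h5
        _ = 2 * Nat.card A₁ := mul_comm _ _
    rw [← h3] at h2
    have h5 : 0 < Nat.card ↥(A₀ ⊓ V) := Nat.card_pos
    have h6 : Nat.card ↥(A₀ ⊔ V) * Nat.card ↥(A₀ ⊓ V) ≤ (2 * Nat.card ↥(A₁ ⊔ V)) * Nat.card ↥(A₀ ⊓ V) := by
      calc Nat.card ↥(A₀ ⊔ V) * Nat.card ↥(A₀ ⊓ V) = Nat.card A₀ * Nat.card V := h1
        _ ≤ (2 * Nat.card A₁) * Nat.card V := Nat.mul_le_mul_right _ h4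
        _ = 2 * (Nat.card A₁ * Nat.card V) := by ring
        _ = (2 * Nat.card ↥(A₁ ⊔ V)) * Nat.card ↥(A₀ ⊓ V) := by rw [← h2]; ring
    exact Nat.le_of_mul_le_mul_right h6 h5
  have hFc := (hmax _ hF).trans hcard
  have hwE : w ∉ A₁ ⊔ V := by
    intro h1
    have h2 : ∀ z ∈ A₁ ⊔ V, z * e₀ = e₀ * z := hmemc e₀ (fun b hb => elem_comm hA b hb.1.1 e₀ he₀.1)
      (fun v hv => (hAV e₀ he₀ v hv).symm)
    exact hmv (h2 w h1).symm
  have h1 := mem_or (K := A₁ ⊔ V) (le_sup_left.trans le_sup_left) hFc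
    (mem_sup_left (mem_sup_right (mem_zpowers w))) hwE (mem_sup_right (mem_zpowers w'))
  have hcE : ∀ z ∈ A₁ ⊔ V, z * e₀ = e₀ * z := hmemc e₀ (fun b hb => elem_comm hA b hb.1.1 e₀ he₀.1)
    (fun v hv => (hAV e₀ he₀ v hv).symm)
  rw [pow_two] at hw2
  have hxw : x * w = w * x := by
    -- `e₀ w e₀⁻¹ = w x` has square one
    have h3 : (w * x) * (w * x) = 1 := by
      rw [← he₀w]
      calc e₀ * w * e₀⁻¹ * (e₀ * w * e₀⁻¹) = e₀ * (w * w) * e₀⁻¹ := by group
        _ = 1 := by rw [hw2]; group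
    have h4 : w * (w * x * (w * x)) * x = x * w * (x * x) := by
      calc w * (w * x * (w * x)) * x = (w * w) * x * w * (x * x) := by group
        _ = x * w * (x * x) := by rw [hw2, one_mul]
    rw [h3, mul_one, hx2, mul_one] at h4
    exact h4.symm
  rcases h1 with h1 | h1
  · have h2 := hcE _ h1
    have h3 : w' * (a * x * a⁻¹) = w' := by
      rw [← he₀w', ← h2]; group
    have h4 : a * x * a⁻¹ = 1 := by
      have := mul_eq_left.1 h3
      exact this
    have h5 : x = 1 := by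
      calc x = a⁻¹ * (a * x * a⁻¹) * a := by group
        _ = 1 := by rw [h4]; group
    rw [h5]; group
  · have h2 := hcE _ h1
    have h3 : e₀ * (w' * w) * e₀⁻¹ = w' * w := by rw [← h2]; group
    have h4 : e₀ * (w' * w) * e₀⁻¹ = w' * (a * x * a⁻¹) * (w * x) := by
      rw [← he₀w', ← he₀w]; group
    rw [h4] at h3
    have h5 : (a * x * a⁻¹) * (w * x) = w := by
      have h6 : w' * ((a * x * a⁻¹) * (w * x)) = w' * w := by rw [← h3]; group
      exact mul_left_cancel h6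
    rw [← hxw, ← mul_assoc] at h5
    have h6 : a * x * a⁻¹ * x = 1 := mul_eq_right.1 h5
    calc a * x * a⁻¹ = (a * x * a⁻¹ * x) * x⁻¹ := by group
      _ = x := by rw [h6, one_mul]; exact inv_eq_of_mul_eq_one_left hx2

/-! ### The theorem -/

/-- The hypotheses of THEOREM WCQ. -/
structure HypW (S : Sylow 2 G) (P A : Subgroup G) (u : G) : Prop extends Hyp (S : Subgroup G) P A u where
  repAll : ∀ B ∈ AA (S : Subgroup G),
    (B ⊓ centralizer (zl (S : Subgroup G) P : Set G)) ⊔ zl (S : Subgroup G) P ∈ AA (S : Subgroup G)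
  pcs : zl (S : Subgroup G) P ≤ closure {w | w ∈ zl (S : Subgroup G) P ∧ ∃ x, ∀ b ∈ jj (S : Subgroup G),
    (b * w * b⁻¹ = w ∨ b * w * b⁻¹ = w * x) ∧ b * x = x * b}
  noff : ∀ g : G, zl (S : Subgroup G) P ≤ cj g P → cj g (zl (S : Subgroup G) P) ≤ P →
    ∀ x ∈ zl (S : Subgroup G) P, ∀ y ∈ cj g (zl (S : Subgroup G) P), x * y = y * x

namespace HypW

variable {S : Sylow 2 G} {P A : Subgroup G} {u : G}

omit [Finite G] in
theorem noff2 (h : HypW S P A u) {g k : G} (h1 : cj g (zl (S : Subgroup G) P) ≤ cj k P)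
    (h2 : cj k (zl (S : Subgroup G) P) ≤ cj g P) :
    ∀ x ∈ cj g (zl (S : Subgroup G) P), ∀ y ∈ cj k (zl (S : Subgroup G) P), x * y = y * x := by
  intro x hx y hy
  have h3 := h.noff (g⁻¹ * k) (by
    have := cj_mono g⁻¹ h1
    rwa [cj_inv_cj, cj_cj] at this) (by
    have := cj_mono g⁻¹ h2
    rwa [cj_inv_cj, cj_cj] at this) (g⁻¹ * x * g) (mem_cj.1 hx) (g⁻¹ * y * g) (by
    rw [← cj_cj]
    refine ⟨y, hy, ?_⟩
    show g⁻¹ * y * g⁻¹⁻¹ = _
    rw [inv_inv])
  exact Uni.comm_cj h3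

omit [Finite G] in
theorem card_le2 (h : Hyp (S : Subgroup G) P A u) :
    Nat.card A ≤ 2 * Nat.card ↥(A ⊓ centralizer (zl (S : Subgroup G) P : Set G)) := by
  set C := A ⊓ centralizer (zl (S : Subgroup G) P : Set G) with hC
  obtain ⟨a₀, ha₀, v₀, hv₀, hne⟩ := h.mv
  have ha₀C : a₀ ∉ C := fun hc => hne (mem_centralizer_iff.1 hc.2 v₀ hv₀).symm
  have h9 : (C.subgroupOf A).index = 2 := by
    rw [Subgroup.index_eq_two_iff]
    refine ⟨⟨a₀, ha₀⟩, fun c => ?_⟩
    by_cases hc : c ∈ C.subgroupOf A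
    · refine Or.inr ⟨hc, fun h10 => ha₀C ?_⟩
      have := (C.subgroupOf A).mul_mem ((C.subgroupOf A).inv_mem hc) h10
      rw [inv_mul_cancel_left] at this
      exact this
    · refine Or.inl ⟨?_, hc⟩
      rw [mem_subgroupOf] at hc ⊢
      exact ⟨(c * ⟨a₀, ha₀⟩ : A).2, h.ind c c.2 a₀ ha₀ (fun h1 => hc ⟨c.2, h1⟩) fun h1 => ha₀C ⟨ha₀, h1⟩⟩
  have h6 : Nat.card C * (C.subgroupOf A).index = Nat.card A := by
    rw [← Nat.card_congr (Subgroup.subgroupOfEquivOfLe (show C ≤ A from inf_le_left)).toEquiv,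
      Subgroup.card_mul_index]
  rw [h9] at h6
  omega

/-- **THEOREM WCQ**, local form: `N_G(T) ≤ N_G(J(O₂(P)))` for `J(O₂(P)) ≤ T ≤ S`. -/
theorem norm_le (h : HypW S P A u) {T : Subgroup G} (hJT : jj (o2 P) ≤ T) (hTS : T ≤ (S : Subgroup G)) :
    normalizer (T : Set G) ≤ normalizer (jj (o2 P) : Set G) := by
  intro n hn
  have hmax : ∀ E : Subgroup G, IsElementaryAbelian 2 E → Nat.card E ≤ Nat.card A := by
    intro E hE
    have h1 := Uni.mx_sylow S E hE
    rwa [mm_eq h.mem] at h1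
  set V := zl (S : Subgroup G) P with hV
  set J := jj (o2 P) with hJ
  have hP := h.par.le
  have hnT : cj n T = T := cj_eq_of_mem_normalizer hn
  have hVel : IsElementaryAbelian 2 V := isElementaryAbelian_iff.2
    ⟨fun a ha b hb => (mem_zc.1 (h.VZ hb)).2.2 a (h.VQ ha), fun a ha => h.Vsq ha⟩
  have hPV : P ≤ normalizer (V : Set G) := MinSimple.VModule.le_normalizer_zl _ P
  have hVJ : V ≤ J := fun v hv => (mem_zj.1 (h.V_zj hv)).1
  have hJV : ∀ b ∈ J, ∀ v ∈ V, b * v = v * b := fun b hb v hv => h.cQ (jj_le _ hb) hv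
  have hJn : J ≤ cj n (S : Subgroup G) := hJT.trans (hnT.ge.trans (cj_mono n hTS))
  have hJn' : cj n J ≤ (S : Subgroup G) := ((cj_mono n hJT).trans hnT.le).trans hTS
  have hc := h.noff n ((hVJ.trans hJn).trans (cj_mono n hP)) (((cj_mono n hVJ).trans hJn').trans hP)
  by_contra hnJ
  -- `J` does not centralise `V^n`
  have hmv : ¬ J ≤ centralizer (cj n V : Set G) := by
    intro h1
    have h2 := h.toHyp.eq_of_cent h1
    apply hnJ
    apply h.toHyp.mem_norm_jj
    refine le_trans (le_inf hJn' ?_) h.cS.le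
    have h3 : J ≤ centralizer (V : Set G) := fun b hb => mem_centralizer_iff.2 fun v hv => (hJV b hb v hv).symm
    have h4 := cj_mono n h3
    rwa [cj_centralizer, h2] at h4
  -- `V^n ≤ J`
  have hV'J : cj n V ≤ J := by
    have hE₀ : (A ⊓ centralizer (V : Set G)) ⊔ V ∈ AA (o2 P) := h.rep'
    have hE₁ : cj n ((A ⊓ centralizer (V : Set G)) ⊔ V) ∈ AA (S : Subgroup G) :=
      ⟨isElementaryAbelian_cj n hE₀.1, (cj_mono n (le_jj hE₀)).trans hJn', fun B hB _ => by
        rw [card_cj, h.card_Q hE₀]; exact hmax B hB⟩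
    have h3 := h.repAll _ hE₁
    have h4 := h.AA_of h3.1 (h3.2.2 A h.mem.1 h.mem.2.1) (sup_le (fun x hx => by
      rw [← h.cS]; exact ⟨hE₁.2.1 hx.1, hx.2⟩) h.VQ)
    refine le_trans ?_ (le_jj h4)
    intro x hx
    exact mem_sup_left ⟨cj_mono n le_sup_right hx, mem_centralizer_iff.2 fun v hv => hc v hv x hx⟩
  have hJJ : J ≤ cj n (jj (S : Subgroup G)) := by
    rw [← jj_cj, hJ, jj_eq]
    refine sSup_le fun E hE => le_jj ⟨hE.1, (le_jj hE).trans hJn, fun B hB _ => ?_⟩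
    rw [h.card_Q hE]
    exact hmax B hB
  -- a piece
  obtain ⟨w, hw, x, hwx, b₁, hb₁, hmv₁⟩ : ∃ w ∈ cj n V, ∃ x,
      (∀ b ∈ J, (b * w * b⁻¹ = w ∨ b * w * b⁻¹ = w * x) ∧ b * x = x * b) ∧ ∃ b ∈ J, b * w ≠ w * b := by
    by_contra hcon
    push Not at hcon
    apply hmv
    have h1 : cj n V ≤ centralizer (J : Set G) := by
      rintro _ ⟨v, hv, rfl⟩
      have h2 : V ≤ cj n⁻¹ (centralizer (J : Set G)) := by
        refine h.pcs.trans ((closure_le _).2 ?_)
        rintro w ⟨hw, x, hx⟩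
        rw [SetLike.mem_coe, mem_cj, inv_inv, mem_centralizer_iff]
        intro b hb
        refine hcon (n * w * n⁻¹) ⟨w, hw, rfl⟩ (n * x * n⁻¹) ?_ b hb
        intro b hb
        have hb' := hJJ hb
        rw [mem_cj] at hb'
        obtain ⟨h3, h4⟩ := hx _ hb'
        constructor
        · rcases h3 with h3 | h3
          · left
            calc b * (n * w * n⁻¹) * b⁻¹ = n * ((n⁻¹ * b * n) * w * (n⁻¹ * b * n)⁻¹) * n⁻¹ := by group
              _ = n * w * n⁻¹ := by rw [h3]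
          · right
            calc b * (n * w * n⁻¹) * b⁻¹ = n * ((n⁻¹ * b * n) * w * (n⁻¹ * b * n)⁻¹) * n⁻¹ := by group
              _ = n * w * n⁻¹ * (n * x * n⁻¹) := by rw [h3]; group
        · calc b * (n * x * n⁻¹) = n * ((n⁻¹ * b * n) * x) * n⁻¹ := by group
            _ = n * (x * (n⁻¹ * b * n)) * n⁻¹ := by rw [h4]
            _ = n * x * n⁻¹ * b := by group
      have h3 := h2 hv
      rwa [mem_cj, inv_inv] at h3
    exact fun b hb => mem_centralizer_iff.2 fun y hy => (mem_centralizer_iff.1 (h1 hy) b hb).symm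
  have hb₁x : b₁ * w * b₁⁻¹ = w * x := (hwx b₁ hb₁).1.resolve_left fun h1 => hmv₁ (mul_inv_eq_iff_eq_mul.1 h1)
  have hJV' : J ≤ normalizer (cj n V : Set G) := by
    have h1 := hJn.trans (cj_mono n (hP.trans hPV))
    rwa [cj_normalizer] at h1
  have hxV' : x ∈ cj n V := by
    have h1 := (mem_normalizer_iff.1 (hJV' hb₁) w).1 hw
    rw [hb₁x] at h1
    have h2 := mul_mem (inv_mem hw) h1
    rwa [inv_mul_cancel_left] at h2
  have hV'2 : ∀ y ∈ cj n V, y ^ 2 = 1 := elem_sq (isElementaryAbelian_cj n hVel)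
  have hxz : x ∈ zj (o2 P) := mem_zj.2 ⟨hV'J hxV', hV'2 x hxV', fun y hy => (hwx y hy).2⟩
  have hx1 : x ≠ 1 := by
    rintro rfl
    rw [mul_one] at hb₁x
    exact hmv₁ (mul_inv_eq_iff_eq_mul.1 hb₁x)
  have hx2 : x * x = 1 := by
    have := hV'2 x hxV'
    rwa [pow_two] at this
  have hPJ : ∀ p ∈ P, cj p J = J := fun p hp => cj_eq_of_mem_normalizer (h.toHyp.P_le hp)
  -- the main step
  have key : ∀ p ∈ P, ∀ a ∈ A, (p * a * p⁻¹) * x = x * (p * a * p⁻¹) := by
    intro p hp a ha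
    have hpV : cj p V = V := cj_eq_of_mem_normalizer (hPV hp)
    have haP : p * a * p⁻¹ ∈ P := P.mul_mem (P.mul_mem hp (hP (h.mem.2.1 ha))) (P.inv_mem hp)
    have ha' : p * a * p⁻¹ ∈ cj p A := ⟨a, ha, rfl⟩
    set A' := cj p A with hA'
    set a' := p * a * p⁻¹ with hadef
    have hA'el : IsElementaryAbelian 2 A' := isElementaryAbelian_cj p h.mem.1
    have hrep : (A' ⊓ centralizer (V : Set G)) ⊔ V ∈ AA (o2 P) := by
      have e : (A' ⊓ centralizer (V : Set G)) ⊔ V = cj p ((A ⊓ centralizer (V : Set G)) ⊔ V) := by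
        have e1 : cj p ((A ⊓ centralizer (V : Set G)) ⊔ V) = cj p (A ⊓ centralizer (V : Set G)) ⊔ cj p V :=
          Subgroup.map_sup _ _ _
        rw [e1, cj_inf, cj_centralizer, hpV]
      rw [e]
      exact h.toHyp.cj_AA h.rep' (((cj_mono p (le_jj h.rep')).trans (hPJ p hp).le).trans (jj_le _))
    have hA'J : A' ⊓ centralizer (V : Set G) ≤ J := le_sup_left.trans (le_jj hrep)
    by_cases hcV : a' ∈ centralizer (V : Set G)
    · exact (hwx a' (hA'J ⟨ha', hcV⟩)).2
    obtain ⟨v₀, hv₀, hmv₀⟩ : ∃ v₀ ∈ V, a' * v₀ ≠ v₀ * a' := by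
      by_contra hcon
      push Not at hcon
      exact hcV (mem_centralizer_iff.2 fun v hv => (hcon v hv).symm)
    suffices hs : a' * x * a'⁻¹ = x from mul_inv_eq_iff_eq_mul.1 hs
    have hwV : ∀ v ∈ V, w * v = v * w := fun v hv => (hc v hv w hw).symm
    by_cases hcase : ∀ b ∈ A' ⊓ centralizer (V : Set G), b * w = w * b
    · have huV : p * u * p⁻¹ ∈ V := (mem_normalizer_iff.1 (hPV hp) u).1 h.uV
      have h1 := caseA (A := A') (V := V) (a := a') (u := p * u * p⁻¹) (w := w) (v₀ := v₀) hA'el hVel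
        (by rw [hA', card_cj]; exact hmax)
        (by
          have e : A' ⊓ centralizer (V : Set G) = cj p (A ⊓ centralizer (V : Set G)) := by
            rw [cj_inf, cj_centralizer, hpV]
          rw [e, card_cj, card_cj]
          exact card_le2 h.toHyp) ha' hv₀ hmv₀
        (by
          intro v hv
          have hv' : p⁻¹ * v * p ∈ V := by
            have := (mem_normalizer_iff.1 (inv_mem (hPV hp)) v).1 hv
            rwa [inv_inv] at this
          rcases h.tr a ha _ hv' with h1 | h1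
          · left
            calc a' * v * a'⁻¹ = p * (a * (p⁻¹ * v * p) * a⁻¹) * p⁻¹ := by rw [hadef]; group
              _ = v := by rw [h1]; group
          · right
            calc a' * v * a'⁻¹ = p * (a * (p⁻¹ * v * p) * a⁻¹) * p⁻¹ := by rw [hadef]; group
              _ = v * (p * u * p⁻¹) := by rw [h1]; group) huV (hV'2 w hw) hwV hcase
      have hb₂ : a' * b₁ * a'⁻¹ ∈ J := by
        rw [← hPJ a' haP]
        exact ⟨b₁, hb₁, rfl⟩
      set b₂ := a' * b₁ * a'⁻¹ with hb₂def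
      have e : a' * x * a'⁻¹ = (a' * w * a'⁻¹)⁻¹ * (b₂ * (a' * w * a'⁻¹) * b₂⁻¹) := by
        have e1 : x = w⁻¹ * (b₁ * w * b₁⁻¹) := by rw [hb₁x]; group
        calc a' * x * a'⁻¹ = a' * (w⁻¹ * (b₁ * w * b₁⁻¹)) * a'⁻¹ := by rw [← e1]
          _ = _ := by rw [hb₂def]; group
      have hne : a' * x * a'⁻¹ ≠ 1 := by
        intro h2
        apply hx1
        calc x = a'⁻¹ * (a' * x * a'⁻¹) * a' := by group
          _ = 1 := by rw [h2]; group
      have h2 := (hwx b₂ hb₂).1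
      rcases h1 with h1 | h1
      · rw [h1] at e
        rcases h2 with h2 | h2
        · rw [h2, inv_mul_cancel] at e
          exact absurd e hne
        · rw [h2, inv_mul_cancel_left] at e
          exact e
      · have h3 : b₂ * (w * (p * u * p⁻¹)) * b₂⁻¹ = b₂ * w * b₂⁻¹ * (p * u * p⁻¹) := by
          have h4 := hJV b₂ hb₂ _ huV
          calc b₂ * (w * (p * u * p⁻¹)) * b₂⁻¹ = b₂ * w * b₂⁻¹ * (b₂ * (p * u * p⁻¹)) * b₂⁻¹ := by group
            _ = b₂ * w * b₂⁻¹ * ((p * u * p⁻¹) * b₂) * b₂⁻¹ := by rw [h4]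
            _ = _ := by group
        rw [h1, h3] at e
        rcases h2 with h2 | h2
        · rw [h2, inv_mul_cancel] at e
          exact absurd e hne
        · have h4 : x * (p * u * p⁻¹) = (p * u * p⁻¹) * x := (hc _ huV x hxV').symm
          rw [h2] at e
          rw [e]
          calc (w * (p * u * p⁻¹))⁻¹ * (w * x * (p * u * p⁻¹)) = (p * u * p⁻¹)⁻¹ * (x * (p * u * p⁻¹)) := by group
            _ = x := by rw [h4]; group
    · push Not at hcase
      obtain ⟨e₀, he₀, hmve⟩ := hcase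
      refine caseB (A := A') (V := V) (w := w) (e₀ := e₀) hA'el hVel (fun E hE => ?_) ha' (fun v hv =>
        (mem_normalizer_iff.1 (hPV haP) v).1 hv) (hV'2 w hw) hwV ?_ (fun b hb => (hwx b (hA'J hb)).1) hx2 he₀ hmve
      · rw [h.card_Q hrep]
        exact hmax E hE
      · refine h.noff2 (g := n) (k := a' * n) ?_ ?_ w hw _ ?_
        · refine hV'J.trans ?_
          rw [← cj_cj, ← hPJ a' haP]
          exact cj_mono a' (hJn.trans (cj_mono n hP))
        · rw [← cj_cj]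
          refine ((cj_mono a' hV'J).trans (hPJ a' haP).le).trans ?_
          exact hJn.trans (cj_mono n hP)
        · rw [← cj_cj]
          exact ⟨w, hw, rfl⟩
  -- the fixed points
  have h1 := h.toHyp.fix (X := zj (o2 P) ⊓ centralizer ((⨆ g : P, cj (g : G) A : Subgroup G) : Set G)) inf_le_left
    (by
      intro p hp y hy
      refine ⟨Hyp.zjH (P := P) (H := P) h.toHyp.P_le hp hy.1, ?_⟩
      have h2 := le_normalizer_iSup_cj P A hp
      have h3 : cj p (centralizer ((⨆ g : P, cj (g : G) A : Subgroup G) : Set G)) =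
          centralizer ((⨆ g : P, cj (g : G) A : Subgroup G) : Set G) := by
        rw [cj_centralizer, cj_eq_of_mem_normalizer h2]
      rw [← h3]
      exact ⟨y, hy.2, rfl⟩)
    (by
      intro p hp a ha y hy
      refine mem_centralizer_iff.1 hy.2 _ ?_
      exact le_iSup (fun g : P => cj (g : G) A) ⟨p, hp⟩ ⟨a, ha, rfl⟩)
  apply hx1
  rw [← mem_bot (G := G), ← h1]
  refine ⟨hxz, ?_⟩
  have h2 : (⨆ g : P, cj (g : G) A : Subgroup G) ≤ centralizer ({x} : Set G) := by
    refine iSup_le fun g => ?_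
    rintro _ ⟨a, ha, rfl⟩
    refine mem_centralizer_iff.2 fun y hy => ?_
    rw [Set.mem_singleton_iff.1 hy]
    exact (key g g.2 a ha).symm
  exact mem_centralizer_iff.2 fun y hy => (mem_centralizer_iff.1 (h2 hy) x rfl).symm

/-- **THEOREM WCQ** (`q = 2`): `J(O₂(P))` is weakly closed in `S`. -/
theorem wc (h : HypW S P A u) : NO3b.Wc.WC (S : Subgroup G) (jj (o2 P)) :=
  Lev.Wc.wc_of_norm ((jj_le _).trans h.QS) fun _ h1 h2 => h.norm_le h1 h2

end HypW

end Cfsg.Agent.Omega.OM.NJQ
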