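import Cfsg.Agent.Omega.OM.NJQ.LemY

/-!
# THEOREM WCQ for all `q` (helper211 #19706, bb OMEGA #20560 (B))

The frame `Uni.Fr` over `B = bau S`, `V = zl S P`, `Q = O₂(P)`, any `q`, `L i ≤ P`, and `NO3S.Hyp S P`:
`J(Q) = jj (o2 P)` is weakly closed in `S`.
-/

set_option autoImplicit false

namespace Cfsg.Agent.Omega.OM.NJQ

open Subgroup Cfsg Cfsg.Agent.ZN.ChoiceBase Cfsg.Agent.ZN.ChoiceSit
open Cfsg.Agent.ZN (jj zj bau zc zl o2)
open Cfsg.Agent.PLocal.ElemAbSup Cfsg.Agent.PLocal.ThompsonJ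
open Cfsg.Agent.Omega.SQ1.Bau (elem_comm elem_sq mem_sup_comm card_sup_comm zj_le_AA mem_AA_of_comm)
open Cfsg.Agent.Omega.OM.BlockUniq (elem_le_centralizer Mx)
open Cfsg.Agent.Omega.OM.Uni (Md FB Fr)
open scoped Pointwise

universe u

variable {G : Type u} [Group G] [Finite G]

/-- `{[x, v] : x ∈ X} = Z` if `|X : C_X(V)| = q`. -/
theorem md_surj {B V Z : Subgroup G} {q : ℕ} (h : Md B V Z q) (hZ : Nat.card Z = q) {X : Subgroup G} (hX : X ≤ B)
    (hq : q * Nat.card ↥(X ⊓ centralizer (V : Set G)) = Nat.card X) {v : G} (hv : v ∈ V) (hvZ : v ∉ Z) :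
    ∀ z ∈ Z, ∃ x ∈ X, z = x * v * x⁻¹ * v⁻¹ := by
  obtain ⟨R, hR1, hR2, hR3, hR4⟩ := h.relIndex_comm hX hv hvZ
  have hR : R = Z := by
    refine Subgroup.eq_of_le_of_card_ge hR1 ?_
    rw [← hR4] at hq
    rw [← Nat.eq_of_mul_eq_mul_right Nat.card_pos hq, hZ]
  intro z hz
  rw [← hR] at hz
  exact hR2 z hz

section

variable {ι : Type*} [Finite ι] {S : Sylow 2 G} {P : Subgroup G} {L W Z C A : ι → Subgroup G} {q : ℕ}

omit [Finite ι] in
/-- no nontrivial `P`-invariant subgroup of `Ω₁Z(J(Q))` is centralised by all conjugates of `A i` -/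
theorem fixQ (h : NO3S.Hyp S P)
    (hF : Fr (bau (S : Subgroup G)) (o2 P) (zl (S : Subgroup G) P) (zj (S : Subgroup G)) L W Z C A q
      (mm (S : Subgroup G))) (i : ι) {X : Subgroup G} (hX : X ≤ zj (o2 P))
    (hPX : ∀ p ∈ P, ∀ x ∈ X, p * x * p⁻¹ ∈ X)
    (hc : ∀ p ∈ P, ∀ a ∈ A i, ∀ x ∈ X, (p * a * p⁻¹) * x = x * (p * a * p⁻¹)) : X = ⊥ := by
  have h2 : Fact (Nat.Prime 2) := ⟨Nat.prime_two⟩
  have hSP := h.star.le
  have hQS : o2 P ≤ (S : Subgroup G) := hF.QB.trans (bau_le _)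
  have hAS : A i ≤ (S : Subgroup G) := (hF.AB i).trans (bau_le _)
  by_contra hne
  have hXe : IsElementaryAbelian 2 X := isElementaryAbelian_iff.2
    ⟨fun a ha b hb => (mem_zj.1 (hX hb)).2.2 a (mem_zj.1 (hX ha)).1, fun a ha => (mem_zj.1 (hX ha)).2.1⟩
  obtain ⟨z, hz, hz1, hzS⟩ := FrSym.exists_fix S.isPGroup' hXe hne fun x hx v hv => hPX x (hSP hx) v hv
  have hzc : z ∈ zc (S : Subgroup G) := mem_zc.2 ⟨hQS (jj_le _ (mem_zj.1 (hX hz)).1), (mem_zj.1 (hX hz)).2.1,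
    fun y hy => mul_inv_eq_iff_eq_mul.1 (hzS y hy)⟩
  set N : Subgroup G := ⨆ g : P, cj (g : G) (A i) with hN
  have hNP : N ≤ P := iSup_le fun g => by
    rintro _ ⟨a, ha, rfl⟩
    exact P.mul_mem (P.mul_mem g.2 (hSP (hAS ha))) (P.inv_mem g.2)
  have hAN : A i ≤ N := by
    have := le_iSup (fun g : P => cj (g : G) (A i)) 1
    rwa [OneMemClass.coe_one, cj_one] at this
  rcases h.star.toIsMinPar.sup_eq_or_inf_le (p := 2) S.isPGroup' (MinSimple.Basic.not_dvd_relIndex S hSP) hNP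
    (le_normalizer_iSup_cj P (A i)) with h1 | h1
  · apply hz1
    rw [← mem_bot (G := G), ← h.inf_eq_bot]
    refine ⟨hzc, mem_centralizer_iff.2 fun p hp => ?_⟩
    have h3 : N ⊔ (S : Subgroup G) ≤ centralizer ({z} : Set G) := by
      refine sup_le (iSup_le fun g => ?_) fun s hs => ?_
      · rintro _ ⟨a, ha, rfl⟩
        rw [mem_centralizer_iff]
        intro y hy
        rw [Set.mem_singleton_iff.1 hy]
        exact (hc g g.2 a ha z hz).symm
      · rw [mem_centralizer_iff]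
        intro y hy
        rw [Set.mem_singleton_iff.1 hy]
        exact ((mem_zc.1 hzc).2.2 s hs).symm
    rw [h1] at h3
    exact (mem_centralizer_iff.1 (h3 hp) z rfl).symm
  · refine hF.Ane i fun a ha v hv => ?_
    exact hF.cQ (h1 ⟨hAS ha, hAN ha⟩) (hF.WV i hv)

omit [Finite ι] in
/-- `J(Q) ≤ J(S)^n` if `J(Q) ≤ S^n` -/
theorem jjQ_le (hE : ∃ E ∈ AA (o2 P), Nat.card E = mm (S : Subgroup G)) {n : G}
    (hJ : jj (o2 P) ≤ cj n (S : Subgroup G)) : jj (o2 P) ≤ cj n (jj (S : Subgroup G)) := by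
  obtain ⟨E₀, hE₀, hc⟩ := hE
  rw [← jj_cj]
  conv_lhs => rw [jj_eq]
  refine sSup_le fun E hE => le_jj ⟨hE.1, (le_jj hE).trans hJ, fun B hB _ => ?_⟩
  exact (Uni.mx_sylow S B hB).trans (hc.ge.trans (hE.2.2 _ hE₀.1 hE₀.2.1))

/-- **THEOREM WCQ**, local form, all `q`: `N_G(T) ≤ N_G(J(O₂(P)))` for `J(O₂(P)) ≤ T ≤ S`. -/
theorem norm_leQ (h : NO3S.Hyp S P)
    (hF : Fr (bau (S : Subgroup G)) (o2 P) (zl (S : Subgroup G) P) (zj (S : Subgroup G)) L W Z C A q
      (mm (S : Subgroup G))) (hL : ∀ i, L i ≤ P) (hι : Nonempty ι) {T : Subgroup G} (hJT : jj (o2 P) ≤ T)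
    (hTS : T ≤ (S : Subgroup G)) :
    normalizer (T : Set G) ≤ normalizer (jj (o2 P) : Set G) := by
  intro n hn
  have hmax : Mx G (mm (S : Subgroup G)) := hF.max
  have hSP := h.star.le
  have hPV : P ≤ normalizer (zl (S : Subgroup G) P : Set G) := MinSimple.VModule.le_normalizer_zl _ P
  have hcS : (S : Subgroup G) ⊓ centralizer (zl (S : Subgroup G) P : Set G) = o2 P := h.inf_centralizer
  have hPJ : ∀ p ∈ P, cj p (jj (o2 P)) = jj (o2 P) := fun p hp => cj_eq_of_mem_normalizer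
    (((MinSimple.VModule.le_normalizer_o2 P).trans (normalizer_le_jj (o2 P))) hp)
  have hQS : o2 P ≤ (S : Subgroup G) := hF.QB.trans (bau_le _)
  obtain ⟨E₀, hE₀⟩ := AA_nonempty (S : Subgroup G)
  have hE₁ := rep_Q hF hE₀
  have hcE : ∀ E ∈ AA (o2 P), Nat.card E = mm (S : Subgroup G) := by
    intro E hE
    refine le_antisymm (hmax E hE.1) ?_
    have h1 := (fr_rep hF ((le_jj hE₀).trans (jj_le_bau _)) hE₀.1 (mm_eq hE₀).symm).2
    rw [← h1]
    exact hE.2.2 _ hE₁.1 hE₁.2.1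
  have hAAof : ∀ E : Subgroup G, IsElementaryAbelian 2 E → E ≤ o2 P → mm (S : Subgroup G) ≤ Nat.card E →
      E ∈ AA (o2 P) := fun E h1 h2 h3 => ⟨h1, h2, fun B hB _ => (hmax B hB).trans h3⟩
  have hVJ : zl (S : Subgroup G) P ≤ jj (o2 P) := fun v hv => le_jj hE₁ (mem_sup_right hv)
  set V := zl (S : Subgroup G) P with hV
  set J := jj (o2 P) with hJ
  have hJV : ∀ b ∈ J, ∀ v ∈ V, b * v = v * b := fun b hb v hv => hF.cQ (jj_le _ hb) hv
  have hnT : cj n T = T := cj_eq_of_mem_normalizer hn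
  have hJn : J ≤ cj n (S : Subgroup G) := hJT.trans (hnT.ge.trans (cj_mono n hTS))
  have hJn' : cj n J ≤ (S : Subgroup G) := ((cj_mono n hJT).trans hnT.le).trans hTS
  -- NOFF
  have noff : ∀ g k : G, cj g V ≤ cj k P → cj k V ≤ cj g P →
      ∀ x ∈ cj g V, ∀ y ∈ cj k V, x * y = y * x := by
    intro g k h1 h2 x hx y hy
    have h3 := h.geo.noff P rfl P rfl (g⁻¹ * k) (by
      have := cj_mono g⁻¹ h1
      rwa [cj_inv_cj, cj_cj] at this) (by
      have := cj_mono g⁻¹ h2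
      rwa [cj_inv_cj, cj_cj] at this)
    have h4 : g⁻¹ * y * g ∈ cj (g⁻¹ * k) V := by
      rw [← cj_cj]
      refine ⟨y, hy, ?_⟩
      show g⁻¹ * y * g⁻¹⁻¹ = _
      rw [inv_inv]
    exact Uni.comm_cj (mem_centralizer_iff.1 (h3 (mem_cj.1 hx)) _ h4).symm
  have hVJn : cj n V ≤ cj n J := cj_mono n hVJ
  have hc : ∀ x ∈ cj n V, ∀ v ∈ V, x * v = v * x := by
    have h1 := noff n 1 (by rw [cj_one]; exact (hVJn.trans hJn').trans hSP) (by
      rw [cj_one]; exact (hVJ.trans hJn).trans (cj_mono n hSP))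
    rwa [cj_one] at h1
  by_contra hnJ
  -- `J` does not centralise `V^n`
  have hmv : ¬ J ≤ centralizer (cj n V : Set G) := by
    intro h1
    apply hnJ
    have h2 : J ≤ cj n (o2 P) := by
      rw [← hcS, cj_inf, cj_centralizer]
      exact le_inf hJn h1
    have h3 : J ≤ cj n J := by
      rw [hJ, ← jj_cj]
      conv_lhs => rw [jj_eq]
      refine sSup_le fun E hE => le_jj ⟨hE.1, (le_jj hE).trans h2, fun B hB _ => ?_⟩
      rw [hcE E hE]
      exact hmax B hB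
    exact mem_normalizer_iff_cj.2 (Subgroup.eq_of_le_of_card_ge h3 (by rw [card_cj])).symm
  -- `V^n ≤ J`
  have hV'J : cj n V ≤ J := by
    have hE₂ : cj n ((E₀ ⊓ centralizer (V : Set G)) ⊔ V) ∈ AA (S : Subgroup G) :=
      ⟨isElementaryAbelian_cj n hE₁.1, (cj_mono n (le_jj hE₁)).trans hJn', fun B hB _ => by
        rw [card_cj, hcE _ hE₁]; exact hmax B hB⟩
    refine le_trans ?_ (le_jj (rep_Q hF hE₂))
    intro x hx
    exact mem_sup_left ⟨cj_mono n le_sup_right hx, mem_centralizer_iff.2 fun v hv => (hc x hx v hv).symm⟩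
  have hJB : J ≤ cj n (bau (S : Subgroup G)) :=
    (jjQ_le ⟨_, hE₁, hcE _ hE₁⟩ hJn).trans (cj_mono n (jj_le_bau _))
  -- a block
  obtain ⟨j, hj⟩ : ∃ j, ¬ J ≤ centralizer (cj n (W j) : Set G) := by
    by_contra hcon
    push Not at hcon
    apply hmv
    have h1 : cj n V ≤ centralizer (J : Set G) := by
      have e : cj n V = ⨆ i, cj n (W i) := by
        conv_lhs => rw [hF.V_eq]
        exact Subgroup.map_iSup _ _
      rw [e]
      refine iSup_le fun i w hw => mem_centralizer_iff.2 fun b hb => ?_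
      exact (mem_centralizer_iff.1 (hcon i hb) w hw).symm
    exact fun b hb => mem_centralizer_iff.2 fun y hy => (mem_centralizer_iff.1 (h1 hy) b hb).symm
  set Wj := cj n (W j) with hWj
  set Zj := cj n (Z j) with hZj
  have M : Md (cj n (bau (S : Subgroup G))) Wj Zj q := (hF.blk j).toMd.conj n
  have hcZ : Nat.card Zj = q := by rw [hZj, card_cj, hF.cardZ j]
  have hWV : Wj ≤ cj n V := cj_mono n (hF.WV j)
  have hWJ : Wj ≤ J := hWV.trans hV'J
  have hZJ : Zj ≤ J := M.ZV.trans hWJ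
  have hZY : Zj ≤ zj (o2 P) := fun x hx => mem_zj.2 ⟨hZJ hx, elem_sq M.el x (M.ZV hx), fun y hy =>
    M.cZ y (hJB hy) x hx⟩
  have hq1 : 1 < q := M.one
  obtain ⟨w₀, hw₀, hw₀Z⟩ : ∃ w ∈ Wj, w ∉ Zj := by
    by_contra hcon
    push Not at hcon
    obtain ⟨b, hb, v, hv, hne⟩ := M.ne
    exact hne (M.cZ b hb v (hcon v hv))
  -- the main step
  have key : ∀ p ∈ P, ∀ i, ∀ a ∈ A i, ∀ x ∈ Zj, (p * a * p⁻¹) * x * (p * a * p⁻¹)⁻¹ ∈ Zj := by
    intro p hp i a ha x hx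
    have hpV : cj p V = V := cj_eq_of_mem_normalizer (hPV hp)
    have haP : p * a * p⁻¹ ∈ P := P.mul_mem (P.mul_mem hp (hSP (bau_le _ (hF.AB i ha)))) (P.inv_mem hp)
    have ha' : p * a * p⁻¹ ∈ cj p (A i) := ⟨a, ha, rfl⟩
    set A' := cj p (A i) with hA'
    set a' := p * a * p⁻¹ with hadef
    have hA'el : IsElementaryAbelian 2 A' := isElementaryAbelian_cj p (hF.Ael i)
    have hrep : (A' ⊓ centralizer (V : Set G)) ⊔ V ∈ AA (o2 P) := by
      have h1 := rep_Q hF (fr_AA hF i)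
      have e : (A' ⊓ centralizer (V : Set G)) ⊔ V = cj p ((A i ⊓ centralizer (V : Set G)) ⊔ V) := by
        have e1 : cj p ((A i ⊓ centralizer (V : Set G)) ⊔ V) = cj p (A i ⊓ centralizer (V : Set G)) ⊔ cj p V :=
          Subgroup.map_sup _ _ _
        rw [e1, cj_inf, cj_centralizer, hpV]
      rw [e]
      refine hAAof _ (isElementaryAbelian_cj _ h1.1) (((cj_mono p (le_jj h1)).trans (hPJ p hp).le).trans
        (jj_le _)) ?_
      rw [card_cj, hcE _ h1]
    set E' := (A' ⊓ centralizer (V : Set G)) ⊔ V with hE'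
    have hE'J : E' ≤ J := le_jj hrep
    have hAV : ∀ b ∈ A' ⊓ centralizer (V : Set G), ∀ v ∈ V, b * v = v * b := fun b hb v hv =>
      (mem_centralizer_iff.1 hb.2 v hv).symm
    have hsplit : ∀ y ∈ E', ∃ b ∈ A' ⊓ centralizer (V : Set G), ∃ v ∈ V, y = b * v := fun y hy =>
      mem_sup_comm hAV hy
    have haV : ∀ v ∈ V, a' * v * a'⁻¹ ∈ V := fun v hv => (mem_normalizer_iff.1 (hPV haP) v).1 hv
    have haJ : ∀ b ∈ J, a' * b * a'⁻¹ ∈ J := by
      intro b hb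
      rw [← hPJ a' haP]
      exact ⟨b, hb, rfl⟩
    have haA : ∀ b ∈ A', a' * b = b * a' := elem_comm hA'el a' ha'
    by_cases hcase : E' ≤ centralizer (Wj : Set G)
    · -- Case A
      have hWE : Wj ≤ E' := fun w hw => mem_AA_of_comm hrep (jj_le _ (hWJ hw)) (elem_sq M.el w hw)
        fun e he => (mem_centralizer_iff.1 (hcase he) w hw).symm
      have hfull : ∃ E ∈ AA (o2 P), ¬ ∀ e ∈ E, ∀ v ∈ Wj, e * v = v * e := by
        by_contra hcon
        push Not at hcon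
        apply hj
        rw [hJ, jj_eq]
        exact sSup_le fun E hE e he => mem_centralizer_iff.2 fun w hw => (hcon E hE e he w hw).symm
      obtain ⟨E, hE, hEm⟩ := hfull
      have hEJ : E ≤ J := le_jj hE
      rcases M.full hmax (hEJ.trans hJB) hE.1 (hcE E hE) with h1 | ⟨-, -, h1, -⟩
      · exact absurd h1 hEm
      obtain ⟨e, he, rfl⟩ := md_surj M hcZ (hEJ.trans hJB) h1 hw₀ hw₀Z x hx
      obtain ⟨b, hb, v, hv, hbv⟩ := hsplit w₀ (hWE hw₀)
      -- `a' w₀ a'⁻¹ = w₀ z`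
      have e1 : a' * w₀ * a'⁻¹ = w₀ * (v⁻¹ * (a' * v * a'⁻¹)) := by
        have h2 := haA b hb.1
        calc a' * w₀ * a'⁻¹ = (a' * b) * v * a'⁻¹ := by rw [hbv]; group
          _ = b * (a' * v * a'⁻¹) := by rw [h2]; group
          _ = w₀ * (v⁻¹ * (a' * v * a'⁻¹)) := by rw [hbv]; group
      have hz : v⁻¹ * (a' * v * a'⁻¹) ∈ V := mul_mem (inv_mem hv) (haV v hv)
      set z := v⁻¹ * (a' * v * a'⁻¹) with hzdef
      have he' := haJ e (hEJ he)
      set e' := a' * e * a'⁻¹ with he'def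
      have h3 := hJV e' he' z hz
      have e2 : a' * (e * w₀ * e⁻¹ * w₀⁻¹) * a'⁻¹ = e' * w₀ * e'⁻¹ * w₀⁻¹ := by
        calc a' * (e * w₀ * e⁻¹ * w₀⁻¹) * a'⁻¹ = e' * (a' * w₀ * a'⁻¹) * e'⁻¹ * (a' * w₀ * a'⁻¹)⁻¹ := by
              rw [he'def]; group
          _ = e' * w₀ * (z * e'⁻¹) * z⁻¹ * w₀⁻¹ := by rw [e1]; group
          _ = e' * w₀ * (e'⁻¹ * z) * z⁻¹ * w₀⁻¹ := by
            have h4 : z * e'⁻¹ = e'⁻¹ * z := by
              calc z * e'⁻¹ = e'⁻¹ * (e' * z) * e'⁻¹ := by group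
                _ = e'⁻¹ * z := by rw [h3]; group
            rw [h4]
          _ = e' * w₀ * e'⁻¹ * w₀⁻¹ := by group
      rw [e2]
      exact M.com e' (hJB he') w₀ hw₀
    · -- Case B
      have hne : ¬ ∀ e ∈ E', ∀ v ∈ Wj, e * v = v * e := fun h1 => hcase fun e he =>
        mem_centralizer_iff.2 fun w hw => (h1 e he w hw).symm
      have hE'm := hcE _ hrep
      rcases M.full hmax (hE'J.trans hJB) hrep.1 hE'm with h1 | ⟨-, -, h1, -⟩
      · exact absurd h1 hne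
      obtain ⟨h2, h3⟩ := md_step M hmax (hE'J.trans hJB) hrep.1 hE'm
      set E₁ := E' ⊓ centralizer (Wj : Set G) with hE₁def
      have hF₁ : E₁ ⊔ Wj ∈ AA (o2 P) := hAAof _ h2 (sup_le (inf_le_left.trans hrep.2.1)
        (hWJ.trans (jj_le _))) h3.ge
      -- `Wj^{a'} ≤ E₁ Wj`
      have hWa : ∀ w ∈ Wj, a' * w * a'⁻¹ ∈ E₁ ⊔ Wj := by
        intro w hw
        refine mem_AA_of_comm hF₁ (jj_le _ (haJ w (hWJ hw))) ?_ ?_
        · have h4 := elem_sq M.el w hw
          rw [pow_two] at h4 ⊢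
          calc a' * w * a'⁻¹ * (a' * w * a'⁻¹) = a' * (w * w) * a'⁻¹ := by group
            _ = 1 := by rw [h4]; group
        · have h5 : E₁ ⊔ Wj ≤ centralizer ({a' * w * a'⁻¹} : Set G) := by
            refine sup_le (fun e he => ?_) fun w' hw' => ?_
            · refine mem_centralizer_iff.2 fun t ht => ?_
              rw [Set.mem_singleton_iff.1 ht]
              obtain ⟨b, hb, v, hv, rfl⟩ := hsplit e he.1
              have c1 : Commute (b * v) w := (mem_centralizer_iff.1 he.2 w hw).symm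
              have c2 : Commute w v := hc w (hWV hw) v hv
              have c3 : Commute b w := by
                have h6 : b = b * v * v⁻¹ := by group
                rw [h6]
                exact c1.mul_left c2.symm.inv_left
              have c4 : Commute a' b := haA b hb.1
              have c5 : Commute b (a' * w * a'⁻¹) := (c4.symm.mul_right c3).mul_right c4.symm.inv_right
              have hv' : a'⁻¹ * v * a' ∈ V := by
                have := (mem_normalizer_iff.1 (inv_mem (hPV haP)) v).1 hv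
                rwa [inv_inv] at this
              have c6 : w * (a'⁻¹ * v * a') = (a'⁻¹ * v * a') * w := hc w (hWV hw) _ hv'
              have c7 : Commute v (a' * w * a'⁻¹) := by
                show v * (a' * w * a'⁻¹) = a' * w * a'⁻¹ * v
                calc v * (a' * w * a'⁻¹) = a' * ((a'⁻¹ * v * a') * w) * a'⁻¹ := by group
                  _ = a' * (w * (a'⁻¹ * v * a')) * a'⁻¹ := by rw [c6]
                  _ = a' * w * a'⁻¹ * v := by group
              exact (c5.mul_left c7).eq.symm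
            · refine mem_centralizer_iff.2 fun t ht => ?_
              rw [Set.mem_singleton_iff.1 ht]
              refine (noff n (a' * n) ?_ ?_ w' (hWV hw') _ ?_).symm
              · refine hV'J.trans ?_
                rw [← cj_cj, ← hPJ a' haP]
                exact cj_mono a' (hJn.trans (cj_mono n hSP))
              · rw [← cj_cj]
                refine ((cj_mono a' hV'J).trans (hPJ a' haP).le).trans ?_
                exact hJn.trans (cj_mono n hSP)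
              · rw [← cj_cj]
                exact ⟨w, hWV hw, rfl⟩
          exact fun y hy => (mem_centralizer_iff.1 (h5 hy) _ rfl).symm
      obtain ⟨e, he, rfl⟩ := md_surj M hcZ (hE'J.trans hJB) h1 hw₀ hw₀Z x hx
      -- `a'` normalises `E'`
      have he' : a' * e * a'⁻¹ ∈ E' := by
        obtain ⟨b, hb, v, hv, rfl⟩ := hsplit e he
        have h4 := haA b hb.1
        have e1 : a' * (b * v) * a'⁻¹ = b * (a' * v * a'⁻¹) := by
          calc a' * (b * v) * a'⁻¹ = (a' * b) * v * a'⁻¹ := by group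
            _ = b * (a' * v * a'⁻¹) := by rw [h4]; group
        rw [e1]
        exact mul_mem (mem_sup_left hb) (mem_sup_right (haV v hv))
      set e' := a' * e * a'⁻¹ with he'def
      obtain ⟨f, hf, w₁, hw₁, ew⟩ := mem_sup_comm (A := E₁) (B := Wj)
        (fun x hx y hy => (mem_centralizer_iff.1 hx.2 y hy).symm) (hWa w₀ hw₀)
      have c1 : Commute e' f := elem_comm hrep.1 e' he' f hf.1
      have h5 := M.com e' (hJB (hE'J he')) w₁ hw₁
      have c2 : Commute f (e' * w₁ * e'⁻¹ * w₁⁻¹) := (mem_centralizer_iff.1 hf.2 _ (M.ZV h5)).symm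
      have e2 : a' * (e * w₀ * e⁻¹ * w₀⁻¹) * a'⁻¹ = e' * w₁ * e'⁻¹ * w₁⁻¹ := by
        calc a' * (e * w₀ * e⁻¹ * w₀⁻¹) * a'⁻¹ = e' * (a' * w₀ * a'⁻¹) * e'⁻¹ * (a' * w₀ * a'⁻¹)⁻¹ := by
              rw [he'def]; group
          _ = (e' * f) * w₁ * e'⁻¹ * w₁⁻¹ * f⁻¹ := by rw [ew]; group
          _ = (f * e') * w₁ * e'⁻¹ * w₁⁻¹ * f⁻¹ := by rw [c1.eq]
          _ = (f * (e' * w₁ * e'⁻¹ * w₁⁻¹)) * f⁻¹ := by group
          _ = (e' * w₁ * e'⁻¹ * w₁⁻¹) * f * f⁻¹ := by rw [c2.eq]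
          _ = e' * w₁ * e'⁻¹ * w₁⁻¹ := by group
      rw [e2]
      exact h5
  -- `Zj ∩ V = 1`
  have hinv : ∀ p ∈ P, ∀ i, ∀ a ∈ A i, ∀ x ∈ Zj ⊓ V, (p * a * p⁻¹) * x * (p * a * p⁻¹)⁻¹ ∈ Zj ⊓ V := by
    intro p hp i a ha x hx
    have haP : p * a * p⁻¹ ∈ P := P.mul_mem (P.mul_mem hp (hSP (bau_le _ (hF.AB i ha)))) (P.inv_mem hp)
    exact ⟨key p hp i a ha x hx.1, (mem_normalizer_iff.1 (hPV haP) x).1 hx.2⟩
  have hX : Zj ⊓ V = ⊥ := by
    by_contra hne
    have hT₀ : (⨆ i, A i) ≤ (S : Subgroup G) := iSup_le fun i => (hF.AB i).trans (bau_le _)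
    have hXe : IsElementaryAbelian 2 (Zj ⊓ V : Subgroup G) := isElementaryAbelian_mono hF.el inf_le_right
    have hTn : (⨆ i, A i) ≤ normalizer ((Zj ⊓ V : Subgroup G) : Set G) := by
      refine iSup_le fun i a ha => mem_normalizer_of_cj_le ?_
      rintro _ ⟨x, hx, rfl⟩
      have h1 := hinv 1 P.one_mem i a ha x hx
      simpa using h1
    obtain ⟨z, hz, hz1, hzT⟩ := FrSym.exists_fix (S.isPGroup'.to_le hT₀) hXe hne
      fun x hx v hv => (mem_normalizer_iff.1 (hTn hx) v).1 hv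
    have hzJ : z ∈ zj (S : Subgroup G) := hF.mem_ZJ_of hz.2 fun i a ha =>
      mul_inv_eq_iff_eq_mul.1 (hzT a (mem_iSup_of_mem i ha))
    obtain ⟨i, hi⟩ : ∃ i, z ∉ C i := by
      by_contra hcon
      push Not at hcon
      exact hz1 (hF.C0 z hz.2 hcon)
    obtain ⟨w, hw, c, hc', hcJ, e⟩ := hF.split_ZJ i hzJ
    have hw1 : w ≠ 1 := by
      rintro rfl
      rw [one_mul] at e
      exact hi (e ▸ hc')
    obtain ⟨l, hl, hmv⟩ := hF.exists_mv i
    have hlc : l⁻¹ * c = c * l⁻¹ := hF.LC i l⁻¹ (inv_mem hl) c hcJ hc'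
    have hd : l⁻¹ * w * l ∈ W i := by
      have := (hF.blk i).nV l⁻¹ (inv_mem hl) w ((hF.blk i).ZV hw)
      rwa [inv_inv] at this
    have hdZ : l⁻¹ * w * l ∉ Z i := by
      intro h1
      have h2 : w ∈ cj l (Z i) ⊓ Z i := ⟨mem_cj.2 h1, hw⟩
      rw [hF.tri' hl hmv, mem_bot] at h2
      exact hw1 h2
    have h4 : l⁻¹ * z * l = (l⁻¹ * w * l) * c := by
      calc l⁻¹ * z * l = (l⁻¹ * w * l) * (l⁻¹ * c) * l := by rw [e]; group
        _ = (l⁻¹ * w * l) * (c * l⁻¹) * l := by rw [hlc]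
        _ = _ := by group
    have h1 : cj l (Z i) ≤ Zj ⊓ V := by
      rintro _ ⟨y, hy, rfl⟩
      obtain ⟨a, ha, rfl⟩ := md_surj (hF.blk i).toMd (hF.cardZ i) (hF.AB i) (hF.A_full i).2.2 hd hdZ y hy
      have h2 := mul_mem (hinv l (hL i hl) i a ha z hz) (inv_mem hz)
      have h3 := hF.AC i a ha c hc'
      have h5 : c * a⁻¹ = a⁻¹ * c := by
        calc c * a⁻¹ = a⁻¹ * (a * c) * a⁻¹ := by group
          _ = a⁻¹ * c := by rw [h3]; group
      have e1 : (l * a * l⁻¹) * z * (l * a * l⁻¹)⁻¹ * z⁻¹ =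
          l * (a * (l⁻¹ * w * l) * a⁻¹ * (l⁻¹ * w * l)⁻¹) * l⁻¹ := by
        calc (l * a * l⁻¹) * z * (l * a * l⁻¹)⁻¹ * z⁻¹ =
            l * (a * (l⁻¹ * z * l) * a⁻¹ * (l⁻¹ * z * l)⁻¹) * l⁻¹ := by group
          _ = l * (a * (l⁻¹ * w * l) * (c * a⁻¹) * c⁻¹ * (l⁻¹ * w * l)⁻¹) * l⁻¹ := by rw [h4]; group
          _ = l * (a * (l⁻¹ * w * l) * (a⁻¹ * c) * c⁻¹ * (l⁻¹ * w * l)⁻¹) * l⁻¹ := by rw [h5]
          _ = _ := by group
      rw [e1] at h2
      exact h2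
    have h2 : cj l (Z i) = Zj ⊓ V := Subgroup.eq_of_le_of_card_ge h1 (by
      rw [card_cj, hF.cardZ i, ← hcZ]
      exact Subgroup.card_le_of_le inf_le_left)
    have h3 : l⁻¹ * z * l ∈ Z i := by
      rw [← h2] at hz
      exact mem_cj.1 hz
    have h5 := hF.uniq (i := i) hd ((hF.blk i).ZV h3) hc' (one_mem _) (by rw [mul_one]; exact h4.symm)
    exact hdZ (h5.1 ▸ h3)
  -- `Zj` is centralised by all conjugates of the `A i`
  have hcent : ∀ p ∈ P, ∀ i, ∀ a ∈ A i, ∀ x ∈ Zj, (p * a * p⁻¹) * x = x * (p * a * p⁻¹) := by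
    intro p hp i a ha x hx
    have h1 := key p hp i a ha x hx
    have h2 : (p * a * p⁻¹) * x * (p * a * p⁻¹)⁻¹ * x⁻¹ ∈ V := by
      refine comm_V hSP hF ?_ (hZY hx)
      exact le_iSup (fun g : P => cj (g : G) (jj (S : Subgroup G))) ⟨p, hp⟩ ⟨a, A_jj hF i ha, rfl⟩
    have h3 : (p * a * p⁻¹) * x * (p * a * p⁻¹)⁻¹ * x⁻¹ ∈ Zj ⊓ V := ⟨Zj.mul_mem h1 (Zj.inv_mem hx), h2⟩
    rw [hX, mem_bot] at h3
    exact mul_inv_eq_iff_eq_mul.1 (mul_inv_eq_one.1 h3)
  obtain ⟨i⟩ := hι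
  have h1 := fixQ h hF i (X := zj (o2 P) ⊓ centralizer ((⨆ g : P, cj (g : G) (A i) : Subgroup G) : Set G))
    inf_le_left
    (by
      intro p hp y hy
      refine ⟨zjP hp hy.1, ?_⟩
      have h3 : cj p (centralizer ((⨆ g : P, cj (g : G) (A i) : Subgroup G) : Set G)) =
          centralizer ((⨆ g : P, cj (g : G) (A i) : Subgroup G) : Set G) := by
        rw [cj_centralizer, cj_eq_of_mem_normalizer (le_normalizer_iSup_cj P (A i) hp)]
      rw [← h3]
      exact ⟨y, hy.2, rfl⟩)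
    (by
      intro p hp a ha y hy
      refine mem_centralizer_iff.1 hy.2 _ ?_
      exact le_iSup (fun g : P => cj (g : G) (A i)) ⟨p, hp⟩ ⟨a, ha, rfl⟩)
  have h2 : Zj ≤ ⊥ := by
    rw [← h1]
    refine le_inf hZY fun x hx => ?_
    have h3 : (⨆ g : P, cj (g : G) (A i) : Subgroup G) ≤ centralizer ({x} : Set G) := by
      refine iSup_le fun g => ?_
      rintro _ ⟨a, ha, rfl⟩
      refine mem_centralizer_iff.2 fun y hy => ?_
      rw [Set.mem_singleton_iff.1 hy]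
      exact (hcent g g.2 i a ha x hx).symm
    exact mem_centralizer_iff.2 fun y hy => (mem_centralizer_iff.1 (h3 hy) x rfl).symm
  rw [le_bot_iff.1 h2, Subgroup.card_bot] at hcZ
  omega

/-- **THEOREM WCQ**, all `q`: `J(O₂(P))` is weakly closed in `S`. -/
theorem wcQ (h : NO3S.Hyp S P)
    (hF : Fr (bau (S : Subgroup G)) (o2 P) (zl (S : Subgroup G) P) (zj (S : Subgroup G)) L W Z C A q
      (mm (S : Subgroup G))) (hL : ∀ i, L i ≤ P) (hι : Nonempty ι) :
    NO3b.Wc.WC (S : Subgroup G) (jj (o2 P)) :=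
  Lev.Wc.wc_of_norm ((jj_le _).trans (hF.QB.trans (bau_le _))) fun _ h1 h2 => norm_leQ h hF hL hι h1 h2

end

/-- A weakly closed `K ≤ S`: `N_G(T) ≤ N_G(K)` for every 2-subgroup `T ≥ K` of `G`. -/
theorem wc_norm_two {S : Sylow 2 G} {K : Subgroup G} (hK : NO3b.Wc.WC (S : Subgroup G) K) {T : Subgroup G}
    (hT : IsPGroup 2 T) (hKT : K ≤ T) : normalizer (T : Set G) ≤ normalizer (K : Set G) := by
  intro g hg
  have hgT : cj g T = T := cj_eq_of_mem_normalizer hg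
  obtain ⟨S', hS'⟩ := hT.exists_le_sylow
  obtain ⟨x, hx⟩ := MulAction.exists_smul_eq G S S'
  have hx2 : (S' : Subgroup G) = cj x (S : Subgroup G) := by
    rw [← hx, Sylow.coe_subgroup_smul]
    rfl
  have hTx : T ≤ cj x (S : Subgroup G) := hS'.trans hx2.le
  have h1 : cj x⁻¹ K = K := hK.eq _ (by
    have := cj_mono x⁻¹ (hKT.trans hTx)
    rwa [cj_inv_cj] at this)
  have h2 : cj (x⁻¹ * g) K = K := hK.eq _ (by
    have h3 : cj g K ≤ T := (cj_mono g hKT).trans hgT.le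
    have := cj_mono x⁻¹ (h3.trans hTx)
    rwa [cj_inv_cj, cj_cj] at this)
  rw [mem_normalizer_iff_cj]
  have h3 : cj x K = K := by
    have := congrArg (cj x) h1
    rw [cj_cj_inv] at this
    exact this.symm
  have h4 := congrArg (cj x) h2
  rwa [cj_cj, mul_inv_cancel_left, h3] at h4

/-- **WCQ for natural modules, any `q`, any `k ≥ 1`.** -/
theorem wcQ_nat {S : Sylow 2 G} {P : Subgroup G} (h : NO3S.HypJ S P) {F : Type} [Field F] [Finite F] [CharP F 2]
    {k : ℕ} (hk : 0 < k)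
    (N : FFThm.NatK F (S : Subgroup G) P (zl (S : Subgroup G) P) (FrameFF.cv (S : Subgroup G) P) k) :
    NO3b.Wc.WC (S : Subgroup G) (jj (o2 P)) := by
  obtain ⟨L, W, Z, C, A, hL, -, -, -, hF⟩ := fr_nat h hk N
  exact wcQ h.toHyp hF hL ⟨⟨0, hk⟩⟩

end Cfsg.Agent.Omega.OM.NJQ
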